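/-
Designs on `p ^ 2 + 1` points and difference sets in a group of prime order with a symmetry.
-/
import Mathlib

set_option autoImplicit false
set_option linter.style.haveILetI false
set_option linter.unusedSectionVars false

namespace Cfsg.Agent.DoublyPrim

open Finset

variable {Ω : Type*} [Fintype Ω] [DecidableEq Ω]

/-- double counting at a point -/
theorem count_at (𝓛 : Finset (Finset Ω)) {k lam : ℕ} (hk : ∀ L ∈ 𝓛, L.card = k)
    (hlam : ∀ x y : Ω, x ≠ y → (𝓛.filter fun L => x ∈ L ∧ y ∈ L).card = lam) (x : Ω) :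
    (𝓛.filter fun L => x ∈ L).card * (k - 1) = lam * (Fintype.card Ω - 1) := by
  have h1 : ∑ L ∈ 𝓛.filter (fun L => x ∈ L), (L.erase x).card = (𝓛.filter fun L => x ∈ L).card * (k - 1) := by
    rw [sum_const_nat fun L hL => ?_]
    rw [card_erase_of_mem (mem_filter.1 hL).2, hk L (mem_filter.1 hL).1]
  have h2 := sum_card_bipartiteAbove_eq_sum_card_bipartiteBelow
    (s := 𝓛.filter fun L => x ∈ L) (t := univ.erase x) (r := fun L y => y ∈ L)
  have hA : ∀ L ∈ 𝓛.filter (fun L => x ∈ L), bipartiteAbove (fun L y => y ∈ L) (univ.erase x) L = L.erase x := by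
    intro L _
    ext y
    simp [bipartiteAbove]
  have hB : ∀ y ∈ univ.erase x,
      (bipartiteBelow (fun L y => y ∈ L) (𝓛.filter fun L => x ∈ L) y).card = lam := by
    intro y hy
    rw [← hlam x y (ne_of_mem_erase hy).symm, bipartiteBelow, filter_filter]
  rw [sum_congr rfl fun L hL => congrArg Finset.card (hA L hL), h1, sum_const_nat hB,
    card_erase_of_mem (mem_univ x), card_univ] at h2
  rw [h2, mul_comm]

/-- Fisher's inequality in the case needed: with `λ = 1` a line has at most as many points as a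
point has lines. -/
theorem card_line_le (𝓛 : Finset (Finset Ω))
    (hlam : ∀ x y : Ω, x ≠ y → (𝓛.filter fun L => x ∈ L ∧ y ∈ L).card = 1)
    {L : Finset Ω} (hL : L ∈ 𝓛) {c : Ω} (hc : c ∉ L) :
    L.card ≤ (𝓛.filter fun M => c ∈ M).card := by
  have hne : ∀ s ∈ L, c ≠ s := fun s hs h => hc (h ▸ hs)
  have hex : ∀ s ∈ L, ∃ M ∈ 𝓛, c ∈ M ∧ s ∈ M := fun s hs => by
    obtain ⟨M, hM⟩ := card_pos.1 (by rw [hlam c s (hne s hs)]; omega : 0 < (𝓛.filter fun M => c ∈ M ∧ s ∈ M).card)
    exact ⟨M, (mem_filter.1 hM).1, (mem_filter.1 hM).2⟩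
  choose f hf1 hf2 hf3 using hex
  refine card_le_card_of_injOn (fun s => if h : s ∈ L then f s h else ∅) (fun s hs => ?_) fun s hs t ht h => ?_
  · have hs' : s ∈ L := hs
    simp [hs', hf1 s hs', hf2 s hs']
  · have hs' : s ∈ L := hs
    have ht' : t ∈ L := ht
    simp only [dif_pos hs', dif_pos ht'] at h
    by_contra hst
    have h1 : f s hs' = L := by
      have := (card_le_one.1 (hlam s t hst).le) (f s hs')
        (mem_filter.2 ⟨hf1 s hs', hf3 s hs', h ▸ hf3 t ht'⟩) L (mem_filter.2 ⟨hL, hs', ht'⟩)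
      exact this
    exact hc (h1 ▸ hf2 s hs')

/-- No design with `λ = 1` and line size `≥ p + 1`; `λ = 2` forces `p = 3`. -/
theorem design (p : ℕ) (hp : p.Prime) (hp2 : p ≠ 2) (hΩ : Fintype.card Ω = p ^ 2 + 1) (𝓛 : Finset (Finset Ω))
    {lam : ℕ} (hk : ∀ L ∈ 𝓛, L.card = p + 1)
    (hlam : ∀ x y : Ω, x ≠ y → (𝓛.filter fun L => x ∈ L ∧ y ∈ L).card = lam) :
    lam ≠ 1 ∧ (lam = 2 → p = 3) := by
  have hr : ∀ x, (𝓛.filter fun L => x ∈ L).card = lam * p := fun x => by
    have h := count_at 𝓛 hk hlam x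
    rw [hΩ, Nat.add_sub_cancel, Nat.add_sub_cancel, pow_two, ← mul_assoc] at h
    exact Nat.eq_of_mul_eq_mul_right hp.pos h
  refine ⟨fun h1 => ?_, fun h2 => ?_⟩
  · subst h1
    obtain ⟨x, y, hxy⟩ := Fintype.exists_pair_of_one_lt_card (α := Ω) (by
      rw [hΩ]; have := Nat.one_lt_pow (n := 2) (by norm_num) hp.one_lt; omega)
    obtain ⟨L, hL⟩ := card_pos.1 (by rw [hlam x y hxy]; omega : 0 < (𝓛.filter fun L => x ∈ L ∧ y ∈ L).card)
    rw [mem_filter] at hL
    obtain ⟨c, hc⟩ : ∃ c, c ∉ L := by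
      by_contra h
      simp only [not_exists, not_not] at h
      have := card_univ (α := Ω)
      rw [← eq_univ_of_forall h, hk L hL.1, hΩ] at this
      have := hp.two_le
      nlinarith
    have := card_line_le 𝓛 hlam hL.1 hc
    rw [hk L hL.1, hr c, one_mul] at this
    omega
  · subst h2
    have h3 := sum_card_bipartiteAbove_eq_sum_card_bipartiteBelow
      (s := 𝓛) (t := (univ : Finset Ω)) (r := fun L y => y ∈ L)
    have hB : ∀ y ∈ (univ : Finset Ω), (bipartiteBelow (fun L y => y ∈ L) 𝓛 y).card = 2 * p := fun y _ => hr y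
    rw [sum_congr rfl (fun L hL => by
        rw [show bipartiteAbove (fun L y => y ∈ L) (univ : Finset Ω) L = L by ext; simp [bipartiteAbove], hk L hL]),
      sum_congr rfl hB,
      sum_const, sum_const, smul_eq_mul, smul_eq_mul, card_univ, hΩ] at h3
    have hd : (p + 1 : ℤ) ∣ ((p : ℤ) ^ 2 + 1) * (2 * p) := by
      refine ⟨(𝓛.card : ℤ), ?_⟩
      have : ((𝓛.card * (p + 1) : ℕ) : ℤ) = (((p ^ 2 + 1) * (2 * p) : ℕ) : ℤ) := congrArg _ h3
      push_cast at this
      linarith
    have h4 : (p + 1 : ℤ) ∣ 4 := by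
      have : (p + 1 : ℤ) ∣ ((p : ℤ) ^ 2 + 1) * (2 * p) + 4 :=
        ⟨2 * (p : ℤ) ^ 2 - 2 * p + 4, by ring⟩
      simpa using Int.dvd_sub this hd
    have h5 : (p + 1) ∣ 4 := by exact_mod_cast h4
    have := Nat.le_of_dvd (by norm_num) h5
    have := hp.two_le
    omega

/-- The pair count may be checked at one pair. -/
theorem lam_of_invariant {G : Type*} [Group G] [MulAction G Ω]
    (htr : ∀ x y x' y' : Ω, x ≠ y → x' ≠ y' → ∃ g : G, g • x = x' ∧ g • y = y')
    (𝓛 : Finset (Finset Ω)) (hinv : ∀ g : G, ∀ L ∈ 𝓛, L.image (g • ·) ∈ 𝓛)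
    {a b : Ω} (hab : a ≠ b) (x y : Ω) (hxy : x ≠ y) :
    (𝓛.filter fun L => x ∈ L ∧ y ∈ L).card = (𝓛.filter fun L => a ∈ L ∧ b ∈ L).card := by
  obtain ⟨g, rfl, rfl⟩ := htr a b x y hab hxy
  refine (card_nbij' (fun L => L.image (g • ·)) (fun L => L.image (g⁻¹ • ·)) ?_ ?_ ?_ ?_).symm
  · intro L hL
    simp only [coe_filter, Set.mem_ofPred_eq] at hL ⊢
    exact ⟨hinv g L hL.1, mem_image_of_mem _ hL.2.1, mem_image_of_mem _ hL.2.2⟩
  · intro L hL
    simp only [coe_filter, Set.mem_ofPred_eq] at hL ⊢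
    exact ⟨hinv g⁻¹ L hL.1, mem_image.2 ⟨_, hL.2.1, inv_smul_smul g a⟩,
      mem_image.2 ⟨_, hL.2.2, inv_smul_smul g b⟩⟩
  · intro L _; simp [image_image, Function.comp_def]
  · intro L _; simp [image_image, Function.comp_def]

section prime

variable {p : ℕ} [hp : Fact p.Prime]

/-- a rational relation between the powers of a primitive `p`-th root of unity is trivial -/
theorem const_of_sum_eq_zero {ζ : ℂ} (hζ : IsPrimitiveRoot ζ p) (c : ℕ → ℚ)
    (h : ∑ t ∈ range p, (c t : ℂ) * ζ ^ t = 0) {t t' : ℕ} (ht : t < p) (ht' : t' < p) : c t = c t' := by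
  have hp' := hp.out
  let f : Polynomial ℚ := ∑ i ∈ range p, Polynomial.C (c i) * Polynomial.X ^ i
  have hev : Polynomial.aeval ζ f = 0 := by
    simp only [f, map_sum, map_mul, Polynomial.aeval_C, Polynomial.aeval_X, map_pow]
    simpa using h
  have hd := minpoly.dvd ℚ ζ hev
  rw [← Polynomial.cyclotomic_eq_minpoly_rat hζ hp'.pos] at hd
  obtain ⟨g, hg⟩ := hd
  have hcoef : ∀ i < p, f.coeff i = c i := fun i hi => by
    simp [f, Polynomial.finsetSum_coeff, Polynomial.coeff_C_mul, Polynomial.coeff_X_pow, hi]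
  by_cases hg0 : g = 0
  · rw [hg0, mul_zero] at hg
    rw [← hcoef t ht, ← hcoef t' ht', hg]
    simp
  have hdeg : f.natDegree ≤ p - 1 := by
    refine Polynomial.natDegree_sum_le_of_forall_le _ _ fun i hi => ?_
    exact (Polynomial.natDegree_C_mul_X_pow_le _ _).trans (by rw [mem_range] at hi; omega)
  rw [hg, Polynomial.natDegree_mul (Polynomial.cyclotomic_ne_zero p ℚ) hg0,
    Polynomial.natDegree_cyclotomic, Nat.totient_prime hp'] at hdeg
  obtain ⟨r, hr⟩ := Polynomial.natDegree_eq_zero.1 (by omega : g.natDegree = 0)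
  have hc : ∀ i < p, f.coeff i = r := fun i hi => by
    rw [hg, ← hr, Polynomial.coeff_mul_C, Polynomial.cyclotomic_prime ℚ p]
    simp [Polynomial.finsetSum_coeff, Polynomial.coeff_X_pow, hi]
  rw [← hcoef t ht, ← hcoef t' ht', hc t ht, hc t' ht']

/-- the additive character -/
noncomputable def chi (ζ : ℂ) (t : ZMod p) : ℂ := ζ ^ t.val

theorem chi_add {ζ : ℂ} (hζ : ζ ^ p = 1) (s t : ZMod p) : chi ζ (s + t) = chi ζ s * chi ζ t := by
  rw [chi, chi, chi, ← pow_add, ZMod.val_add, ← pow_eq_pow_mod _ hζ]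

theorem chi_sub {ζ : ℂ} (hζ : IsPrimitiveRoot ζ p) (s t : ZMod p) :
    chi ζ (s - t) = chi ζ s * (starRingEnd ℂ) (chi ζ t) := by
  have hz := hζ.pow_eq_one
  have h1 : chi ζ t * (starRingEnd ℂ) (chi ζ t) = 1 := by
    rw [Complex.mul_conj, Complex.normSq_eq_norm_sq, chi, norm_pow,
      Complex.norm_eq_one_of_pow_eq_one hz hp.out.ne_zero]
    simp
  rw [← mul_one (chi ζ (s - t)), ← h1, ← mul_assoc, ← chi_add hz, sub_add_cancel]

theorem sum_range_eq (f : ZMod p → ℂ) : ∑ t ∈ range p, f (t : ZMod p) = ∑ t : ZMod p, f t := by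
  refine sum_nbij' (fun t => (t : ZMod p)) ZMod.val (fun _ _ => mem_univ _) (fun t _ => mem_range.2 t.val_lt)
    (fun t ht => ZMod.val_cast_of_lt (mem_range.1 ht)) (fun t _ => ZMod.natCast_zmod_val t) fun _ _ => rfl

theorem indicator_eq {ζ : ℂ} (hζ : IsPrimitiveRoot ζ p) (c : ZMod p → ℚ)
    (h : ∑ t : ZMod p, (c t : ℂ) * chi ζ t = 0) (t t' : ZMod p) : c t = c t' := by
  have := const_of_sum_eq_zero hζ (fun i => c (i : ZMod p)) (by
    rw [← h, ← sum_range_eq]
    refine sum_congr rfl fun i hi => ?_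
    rw [chi, ZMod.val_cast_of_lt (mem_range.1 hi)]) t.val_lt t'.val_lt
  simpa [ZMod.natCast_zmod_val] using this

/-- A difference set in a group of prime order whose `p`-th convolution power is constant off one
point is trivial. -/
theorem no_difference_set (hp2 : p ≠ 2) (D : Finset (ZMod p)) (h2 : 2 ≤ D.card) (h2' : D.card + 2 ≤ p)
    (f : ℕ → ZMod p → ℕ) (hf0 : ∀ t, f 0 t = if t = 0 then 1 else 0)
    (hf : ∀ n t, f (n + 1) t = ∑ d ∈ D, f n (t - d))
    (e : ZMod p) (hfp : ∀ t t', t ≠ e → t' ≠ e → f p t = f p t')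
    (hg : ∀ t t' : ZMod p, t ≠ 0 → t' ≠ 0 →
      (D.filter fun d => d - t ∈ D).card = (D.filter fun d => d - t' ∈ D).card) : False := by
  classical
  have hp' := hp.out
  have hmod : ∀ t, (f p t : ZMod p) = if t = 0 then (D.card : ZMod p) else 0 := by
    let d : AddMonoidAlgebra (ZMod p) (ZMod p) := ∑ s ∈ D, AddMonoidAlgebra.single s 1
    haveI : CharP (AddMonoidAlgebra (ZMod p) (ZMod p)) p :=
      charP_of_injective_algebraMap
        (FaithfulSMul.algebraMap_injective (ZMod p) (AddMonoidAlgebra (ZMod p) (ZMod p))) p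
    have hco : ∀ n t, (d ^ n).coeff t = (f n t : ZMod p) := by
      intro n
      induction n with
      | zero =>
        intro t
        rw [pow_zero, hf0, AddMonoidAlgebra.one_def, AddMonoidAlgebra.coeff_single, Finsupp.single_apply]
        by_cases h : t = 0
        · simp [h]
        · simp [h, Ne.symm h]
      | succ n ih =>
        intro t
        rw [pow_succ, mul_sum, AddMonoidAlgebra.coeff_sum, Finsupp.coe_finsetSum, Finset.sum_apply, hf, Nat.cast_sum]
        refine sum_congr rfl fun s _ => ?_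
        rw [AddMonoidAlgebra.coeff_mul_single_eq_coeff_mul (m₂ := t - s) (fun b _ => by
          constructor <;> intro h <;> [rw [← h, add_sub_cancel_right]; rw [h, sub_add_cancel]]), mul_one, ih]
    intro t
    rw [← hco, sum_pow_char p]
    simp only [AddMonoidAlgebra.single_pow, one_pow, nsmul_eq_mul, ZMod.natCast_self, zero_mul]
    by_cases h : t = 0
    · subst h
      simp [AddMonoidAlgebra.coeff_sum, AddMonoidAlgebra.coeff_single, Finsupp.single_apply, Finsupp.coe_finsetSum]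
    · simp [AddMonoidAlgebra.coeff_sum, AddMonoidAlgebra.coeff_single, Finsupp.single_apply, h, Finsupp.coe_finsetSum, Ne.symm h]
  have hk : (D.card : ZMod p) ≠ 0 := by
    rw [Ne, ZMod.natCast_eq_zero_iff]
    intro h
    have := Nat.le_of_dvd (by omega) h
    omega
  have he : e = 0 := by
    by_contra he
    have hp3 : 3 ≤ p := by have := hp'.two_le; omega
    obtain ⟨t, ht⟩ := card_pos.1 (show 0 < ((univ : Finset (ZMod p)) \ {0, e}).card by
      rw [card_sdiff_of_subset (subset_univ _), card_univ, ZMod.card, card_pair (Ne.symm he)]; omega)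
    simp only [mem_sdiff, mem_univ, true_and, mem_insert, mem_singleton, not_or] at ht
    have h1 := congrArg (fun m : ℕ => (m : ZMod p)) (hfp 0 t (Ne.symm he) ht.2)
    simp only [hmod, if_true, if_neg ht.1] at h1
    exact hk h1
  subst he
  obtain ⟨ζ, hζ⟩ : ∃ ζ : ℂ, IsPrimitiveRoot ζ p := ⟨_, Complex.isPrimitiveRoot_exp p hp'.ne_zero⟩
  have hz := hζ.pow_eq_one
  set S : ℂ := ∑ s ∈ D, chi ζ s with hS
  have hind : ∀ (E : Finset (ZMod p)), ∑ s ∈ E, chi ζ s =
      ∑ t : ZMod p, (((if t ∈ E then 1 else 0 : ℚ)) : ℂ) * chi ζ t := fun E => by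
    simp only [apply_ite Rat.cast, Rat.cast_one, Rat.cast_zero, ite_mul, one_mul, zero_mul, sum_ite_mem, univ_inter]
  have hS0 : S ≠ 0 := by
    intro h
    obtain ⟨x, hx⟩ := card_pos.1 (show 0 < D.card by omega)
    obtain ⟨y, hy⟩ : ∃ y, y ∉ D := by
      by_contra hall
      simp only [not_exists, not_not] at hall
      have := card_univ (α := ZMod p)
      rw [← eq_univ_of_forall hall, ZMod.card] at this
      omega
    have := indicator_eq hζ _ ((hind D).symm.trans h) x y
    simp [hx, hy] at this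
  have hpow : ∀ n, ∑ t : ZMod p, (f n t : ℂ) * chi ζ t = S ^ n := by
    intro n
    induction n with
    | zero => simp [hf0, chi]
    | succ n ih =>
      simp only [hf, Nat.cast_sum, sum_mul]
      rw [sum_comm, pow_succ, ← ih, mul_sum]
      refine sum_congr rfl fun d _ => ?_
      rw [sum_mul, ← Equiv.sum_comp (Equiv.addRight d)]
      refine sum_congr rfl fun t _ => ?_
      rw [Equiv.coe_addRight, add_sub_cancel_right, chi_add hz]
      ring
  have hreal : (starRingEnd ℂ) (S ^ p) = S ^ p := by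
    obtain ⟨t₀, ht₀⟩ : ∃ t₀ : ZMod p, t₀ ≠ 0 := ⟨1, one_ne_zero⟩
    have hsum : ∑ t : ZMod p, chi ζ t = 0 := by
      rw [← sum_range_eq]
      simp only [chi]
      rw [sum_congr rfl fun i hi => by rw [ZMod.val_cast_of_lt (mem_range.1 hi)]]
      exact hζ.geom_sum_eq_zero hp'.one_lt
    have : S ^ p = (f p 0 : ℂ) - f p t₀ := by
      rw [← hpow, ← sub_zero (∑ t : ZMod p, (f p t : ℂ) * chi ζ t), ← mul_zero (f p t₀ : ℂ), ← hsum, mul_sum,
        ← sum_sub_distrib, Fintype.sum_eq_single 0]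
      · simp [chi]
      · intro t ht
        rw [hfp t t₀ ht ht₀]
        ring
    rw [this, map_sub, Complex.conj_natCast, Complex.conj_natCast]
  have hSc : (starRingEnd ℂ) S ≠ 0 := by simpa using hS0
  obtain ⟨i, hip, hi⟩ := hζ.eq_pow_of_pow_eq_one (ξ := S / (starRingEnd ℂ) S)
    (by rw [div_pow, ← map_pow, hreal, div_self (pow_ne_zero _ hS0)])
  have hrot : S = ∑ s ∈ D.image (fun d => (i : ZMod p) - d), chi ζ s := by
    rw [sum_image fun a _ b _ h => sub_right_injective h]
    conv_lhs => rw [← div_mul_cancel₀ S hSc, ← hi, hS, map_sum, mul_sum]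
    refine sum_congr rfl fun d _ => ?_
    rw [chi_sub hζ, show chi ζ (i : ZMod p) = ζ ^ i by rw [chi, ZMod.val_cast_of_lt hip]]
  set E := D.image fun d => (i : ZMod p) - d with hE
  have hmemE : ∀ x, x ∈ E ↔ (i : ZMod p) - x ∈ D := fun x => by
    rw [hE, mem_image]
    constructor
    · rintro ⟨d, hd, rfl⟩; rwa [sub_sub_cancel]
    · exact fun h => ⟨_, h, sub_sub_cancel _ x⟩
  have hDE : E = D := by
    have h0 : ∑ t : ZMod p,
        ((((if t ∈ D then 1 else 0) - (if t ∈ E then 1 else 0) : ℚ)) : ℂ) * chi ζ t = 0 := by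
      simp only [Rat.cast_sub, sub_mul, sum_sub_distrib, ← hind, ← hrot, ← hS, sub_self]
    have hconst := indicator_eq hζ (fun t => (if t ∈ D then 1 else 0) - (if t ∈ E then 1 else 0)) h0
    have hcard : E.card = D.card := card_image_of_injective _ sub_right_injective
    have hz0 : ∀ t, ((if t ∈ D then 1 else 0) - (if t ∈ E then 1 else 0) : ℚ) = 0 := by
      intro t
      have hs : ∑ u : ZMod p, ((if u ∈ D then 1 else 0) - (if u ∈ E then 1 else 0) : ℚ) = 0 := by
        rw [sum_sub_distrib]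
        simp [hcard]
      rw [sum_congr rfl fun u _ => hconst u t, sum_const, card_univ, ZMod.card, nsmul_eq_mul] at hs
      exact (mul_eq_zero.1 hs).resolve_left (Nat.cast_ne_zero.2 hp'.ne_zero)
    ext t
    have := hz0 t
    by_cases h1 : t ∈ D <;> by_cases h2 : t ∈ E <;> simp_all
  have hsym : ∀ x, x ∈ D ↔ (i : ZMod p) - x ∈ D := fun x => by rw [← hmemE, hDE]
  have hpar : ∀ c : ZMod p, ((D.filter fun d => c - d ∈ D).card : ZMod 2) = if c / 2 ∈ D then 1 else 0 := by
    intro c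
    have h2ne : (2 : ZMod p) ≠ 0 := by
      intro h
      have : ((2 : ℕ) : ZMod p) = 0 := by exact_mod_cast h
      rw [ZMod.natCast_eq_zero_iff] at this
      exact hp2 ((Nat.prime_dvd_prime_iff_eq hp' Nat.prime_two).1 this)
    have hfix : ∀ d : ZMod p, c - d = d ↔ d = c / 2 := fun d => by
      rw [eq_div_iff h2ne, sub_eq_iff_eq_add, mul_two, eq_comm]
    have hrest : ∑ d ∈ (D.filter fun d => c - d ∈ D).filter (fun d => d ≠ c / 2), (1 : ZMod 2) = 0 := by
      refine sum_involution (fun d _ => c - d) (fun d _ => by decide)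
        (fun d hd _ h => (mem_filter.1 hd).2 ((hfix d).1 h)) (fun d hd => ?_) (fun d _ => sub_sub_cancel c d)
      simp only [mem_filter] at hd ⊢
      refine ⟨⟨hd.1.2, by rw [sub_sub_cancel]; exact hd.1.1⟩, fun h => hd.2 ?_⟩
      rw [← (hfix _).1 (show c - d = d from ?_)]
      have := (hfix (c / 2)).2 rfl
      calc c - d = c / 2 := h
        _ = c - c / 2 := this.symm
        _ = d := by rw [← h, sub_sub_cancel]
    rw [card_eq_sum_ones, Nat.cast_sum,
      ← sum_filter_add_sum_filter_not (D.filter fun d => c - d ∈ D) (fun d => d = c / 2)]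
    push_cast
    rw [hrest, add_zero]
    by_cases h : c / 2 ∈ D
    · rw [if_pos h, show (D.filter fun d => c - d ∈ D).filter (fun d => d = c / 2) = {c / 2} by
        ext d
        simp only [mem_filter, mem_singleton]
        exact ⟨fun hd => hd.2, fun hd => ⟨⟨hd ▸ h, by rw [(hfix d).2 hd, hd]; exact h⟩, hd⟩⟩]
      simp
    · rw [if_neg h, filter_false_of_mem (fun d hd (hd' : d = c / 2) => h (hd' ▸ (mem_filter.1 hd).1)), sum_empty]
  have hall : ∀ u v : ZMod p, u ≠ (i : ZMod p) / 2 → v ≠ (i : ZMod p) / 2 → (u ∈ D ↔ v ∈ D) := by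
    have h2ne : (2 : ZMod p) ≠ 0 := by
      intro h
      have : ((2 : ℕ) : ZMod p) = 0 := by exact_mod_cast h
      rw [ZMod.natCast_eq_zero_iff] at this
      exact hp2 ((Nat.prime_dvd_prime_iff_eq hp' Nat.prime_two).1 this)
    intro u v hu hv
    have key : ∀ w : ZMod p, (D.filter fun d => d - (2 * w - i) ∈ D).card = (D.filter fun d => 2 * w - d ∈ D).card :=
      fun w => congrArg Finset.card (filter_congr fun d _ => by
        rw [hsym (d - (2 * w - i))]
        exact iff_of_eq (congrArg (· ∈ D) (by ring)))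
    have hne : ∀ w : ZMod p, w ≠ (i : ZMod p) / 2 → 2 * w - i ≠ 0 := fun w hw h => hw (by
      rw [eq_div_iff h2ne, mul_comm]; exact sub_eq_zero.1 h)
    have h := hg _ _ (hne u hu) (hne v hv)
    rw [key, key] at h
    have h' := congrArg (fun m : ℕ => (m : ZMod 2)) h
    simp only [hpar, mul_div_cancel_left₀ _ h2ne] at h'
    by_cases h1 : u ∈ D <;> by_cases h2 : v ∈ D <;> simp [h1, h2] at h' ⊢
  by_cases hex : ∃ u, u ≠ (i : ZMod p) / 2 ∧ u ∈ D
  · obtain ⟨u, hu, huD⟩ := hex
    have hsub : (univ : Finset (ZMod p)).erase ((i : ZMod p) / 2) ⊆ D := fun v hv =>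
      (hall u v hu (ne_of_mem_erase hv)).1 huD
    have := card_le_card hsub
    rw [card_erase_of_mem (mem_univ _), card_univ, ZMod.card] at this
    omega
  · have hsub : D ⊆ {(i : ZMod p) / 2} := fun v hv => mem_singleton.2 (by
      by_contra hne; exact hex ⟨v, hne, hv⟩)
    have := card_le_card hsub
    rw [card_singleton] at this
    omega

end prime

end Cfsg.Agent.DoublyPrim
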