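/-
Doubly transitive groups of degree `p ^ 2 + 1`: general facts.
-/
import Cfsg.Agent.Lib.DoublyPrim.Design

set_option autoImplicit false
set_option linter.style.haveILetI false
set_option linter.unusedSectionVars false

namespace Cfsg.Agent.DoublyPrim

open Finset MulAction

variable {G Ω : Type*} [Group G] [Finite G] [Fintype Ω] [DecidableEq Ω] [MulAction G Ω] [FaithfulSMul G Ω]

/-- the standing hypotheses -/
structure Hyp (G Ω : Type*) [Group G] [Fintype Ω] [MulAction G Ω] (p : ℕ) : Prop where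
  prime : p.Prime
  odd : p ≠ 2
  card : Fintype.card Ω = p ^ 2 + 1
  trans : ∀ x y x' y' : Ω, x ≠ y → x' ≠ y' → ∃ g : G, g • x = x' ∧ g • y = y'

/-- a block system of the stabiliser of `a` -/
structure Sys (G Ω : Type*) [Group G] [DecidableEq Ω] [MulAction G Ω] (a : Ω) (p : ℕ) where
  cl : Ω → Finset Ω
  self_mem : ∀ y, y ≠ a → y ∈ cl y
  ne_of_mem : ∀ y, y ≠ a → ∀ z ∈ cl y, z ≠ a
  eq_of_mem : ∀ y, y ≠ a → ∀ z ∈ cl y, cl z = cl y
  smul_cl : ∀ g : G, g • a = a → ∀ y, y ≠ a → cl (g • y) = (cl y).image (g • ·)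
  card_cl : ∀ y, y ≠ a → (cl y).card = p

variable {p : ℕ}

theorem smul_ne {g : G} {a y : Ω} (hg : g • a = a) (hy : y ≠ a) : g • y ≠ a := fun h => hy (by
  rw [← inv_smul_smul g y, h, inv_smul_eq_iff.2 hg.symm])

theorem inv_fix {g : G} {a : Ω} (hg : g • a = a) : g⁻¹ • a = a := inv_smul_eq_iff.2 hg.symm

theorem eq_one_of_forall {g : G} (h : ∀ x : Ω, g • x = x) : g = 1 :=
  eq_of_smul_eq_smul (α := Ω) fun x => by rw [h, one_smul]

/-- an element of `p`-power order fixing a point of an invariant set with at most `p` points fixes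
it pointwise -/
theorem fix_of_small [Fact p.Prime] (S : Finset Ω) (hS : S.card ≤ p) {g : G} (hg : ∃ n : ℕ, g ^ p ^ n = 1)
    (hinv : ∀ z ∈ S, g • z ∈ S) {b : Ω} (hb : b ∈ S) (hfix : g • b = b) : ∀ z ∈ S, g • z = z := by
  intro z hz
  have hpg : IsPGroup p (Subgroup.zpowers g) := by
    obtain ⟨n, hn⟩ := hg
    obtain ⟨m, -, hm⟩ := (Nat.dvd_prime_pow (Fact.out : p.Prime)).1 (orderOf_dvd_of_pow_eq_one hn)
    exact IsPGroup.of_card (by rw [Nat.card_zpowers, hm])
  obtain ⟨k, hk⟩ := hpg.card_orbit z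
  have hpow : ∀ n : ℕ, g ^ n • z ∈ S ∧ (z ≠ b → g ^ n • z ≠ b) := by
    intro n
    induction n with
    | zero => rw [pow_zero, one_smul]; exact ⟨hz, id⟩
    | succ n ih =>
      rw [pow_succ', mul_smul]
      refine ⟨hinv _ ih.1, fun h he => ih.2 h ?_⟩
      conv_rhs => rw [← inv_smul_smul g b, hfix]
      rw [← inv_smul_smul g (g ^ n • z), he]
  have hsub : orbit (Subgroup.zpowers g) z ⊆ (S.erase b : Set Ω) ∨ z = b := by
    by_cases hzb : z = b
    · exact Or.inr hzb
    refine Or.inl ?_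
    rintro _ ⟨⟨x, hx⟩, rfl⟩
    obtain ⟨n, rfl⟩ := (IsOfFinOrder.mem_powers_iff_mem_zpowers (isOfFinOrder_of_finite g)).2 hx
    rw [coe_erase]
    exact ⟨(hpow n).1, (hpow n).2 hzb⟩
  rcases hsub with hsub | rfl
  · have hle := Set.ncard_le_ncard hsub (Set.toFinite _)
    rw [Set.ncard_coe_finset, card_erase_of_mem hb] at hle
    have h1 : (orbit (Subgroup.zpowers g) z).ncard = p ^ k := by rw [← hk]; rfl
    have hk0 : k = 0 := by
      by_contra hne
      have := Nat.le_self_pow hne p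
      have := (Fact.out : p.Prime).pos
      omega
    rw [hk0, pow_zero, Set.ncard_eq_one] at h1
    obtain ⟨w, hw⟩ := h1
    have e1 : z ∈ ({w} : Set Ω) := hw ▸ mem_orbit_self z
    have e2 : g • z ∈ ({w} : Set Ω) :=
      hw ▸ ⟨(⟨g, Subgroup.mem_zpowers g⟩ : Subgroup.zpowers g), rfl⟩
    rw [Set.mem_singleton_iff] at e1 e2
    rw [e2, e1]
  · exact hfix

theorem Sys.mem_smul {a : Ω} (S : Sys G Ω a p) {g : G} (hg : g • a = a) {y z : Ω} (hy : y ≠ a)
    (hz : z ∈ S.cl y) : g • z ∈ S.cl (g • y) := by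
  rw [S.smul_cl g hg y hy]
  exact mem_image_of_mem _ hz

theorem Sys.eq_iff {a : Ω} (S : Sys G Ω a p) {y z : Ω} (hy : y ≠ a) (hz : z ≠ a) :
    S.cl y = S.cl z ↔ y ∈ S.cl z :=
  ⟨fun h => h ▸ S.self_mem y hy, S.eq_of_mem z hz y⟩

open scoped Classical in
/-- the common fixed points of the `p`-elements fixing two points -/
noncomputable def pFix (G : Type*) {Ω : Type*} [Group G] [Fintype Ω] [MulAction G Ω] (p : ℕ) (x y : Ω) : Finset Ω :=
  univ.filter fun z => ∀ h : G, h • x = x → h • y = y → (∃ n : ℕ, h ^ p ^ n = 1) → h • z = z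

theorem mem_pFix {x y z : Ω} :
    z ∈ pFix G p x y ↔ ∀ h : G, h • x = x → h • y = y → (∃ n : ℕ, h ^ p ^ n = 1) → h • z = z := by
  simp [pFix]

theorem smul_mem_pFix {g : G} {x y z : Ω} : g • z ∈ pFix G p (g • x) (g • y) ↔ z ∈ pFix G p x y := by
  rw [mem_pFix, mem_pFix]
  have key : ∀ (h : G) (w : Ω), (g * h * g⁻¹) • (g • w) = g • (h • w) := fun h w => by
    simp only [smul_smul, inv_mul_cancel_right]
  constructor
  · intro H h hx hy ⟨n, hn⟩
    have := H (g * h * g⁻¹) (by rw [key, hx]) (by rw [key, hy]) ⟨n, by rw [conj_pow, hn, mul_one, mul_inv_cancel]⟩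
    rw [key] at this
    exact smul_left_cancel g this
  · intro H h hx hy ⟨n, hn⟩
    have h1 := H (g⁻¹ * h * g) (by rw [mul_smul, mul_smul, hx, inv_smul_smul])
      (by rw [mul_smul, mul_smul, hy, inv_smul_smul])
      ⟨n, by have := conj_pow (i := p ^ n) (a := g⁻¹) (b := h); rw [inv_inv] at this; rw [this, hn, mul_one, inv_mul_cancel]⟩
    rw [mul_smul, mul_smul, inv_smul_eq_iff] at h1
    exact h1

/-- two-point stabilisers have order prime to `p` -/
theorem not_dvd_two_point (H : Hyp G Ω p) {a : Ω} (S : Sys G Ω a p) {x y : Ω} (hxy : x ≠ y) (g : G)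
    (hx : g • x = x) (hy : g • y = y) (hg : ∃ n : ℕ, g ^ p ^ n = 1) : g = 1 := by
  classical
  haveI : Fact p.Prime := ⟨H.prime⟩
  by_contra hg1
  let 𝓛 : Finset (Finset Ω) :=
    (univ.filter fun q : Ω × Ω => q.1 ≠ q.2).image fun q => pFix G p q.1 q.2
  obtain ⟨b₀, hb₀⟩ : ∃ b₀ : Ω, b₀ ≠ a :=
    (univ.exists_mem_ne (by rw [card_univ, H.card]; have := Nat.one_lt_pow (n := 2) (by norm_num) H.prime.one_lt; omega) a).imp
      fun b h => h.2
  have himg : ∀ (g : G) (u v : Ω), pFix G p (g • u) (g • v) = (pFix G p u v).image (g • ·) := by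
    intro g u v
    ext z
    rw [mem_image]
    constructor
    · intro hz
      refine ⟨g⁻¹ • z, ?_, smul_inv_smul g z⟩
      rwa [← smul_mem_pFix (g := g), smul_inv_smul]
    · rintro ⟨w, hw, rfl⟩
      rwa [smul_mem_pFix]
  have hcard : ∀ u v : Ω, u ≠ v → (pFix G p u v).card = (pFix G p a b₀).card := by
    intro u v huv
    obtain ⟨g, rfl, rfl⟩ := H.trans a b₀ u v hb₀.symm huv
    rw [himg, card_image_of_injective _ (MulAction.injective g)]
  have hsub : insert a (S.cl b₀) ⊆ pFix G p a b₀ := by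
    intro z hz
    rw [mem_pFix]
    intro h ha hb hp
    rcases mem_insert.1 hz with rfl | hz
    · exact ha
    refine fix_of_small (S.cl b₀) (S.card_cl b₀ hb₀).le hp (fun w hw => ?_) (S.self_mem b₀ hb₀) hb z hz
    have := S.mem_smul ha hb₀ hw
    rwa [hb] at this
  have hmem : ∀ u v : Ω, u ∈ pFix G p u v ∧ v ∈ pFix G p u v := fun u v =>
    ⟨mem_pFix.2 fun _ h _ _ => h, mem_pFix.2 fun _ _ h _ => h⟩
  have heq : ∀ u v c d : Ω, u ≠ v → c ≠ d → c ∈ pFix G p u v → d ∈ pFix G p u v →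
      pFix G p c d = pFix G p u v := by
    intro u v c d huv hcd hc hd
    refine eq_of_subset_of_card_le (fun z hz => mem_pFix.2 fun h h1 h2 hp => ?_)
      (by rw [hcard u v huv, hcard c d hcd])
    exact mem_pFix.1 hz h (mem_pFix.1 hc h h1 h2 hp) (mem_pFix.1 hd h h1 h2 hp) hp
  have hlam : ∀ c d : Ω, c ≠ d → (𝓛.filter fun L => c ∈ L ∧ d ∈ L).card = 1 := by
    intro c d hcd
    rw [card_eq_one]
    refine ⟨pFix G p c d, ?_⟩
    ext L
    simp only [mem_filter, mem_singleton, 𝓛, mem_image, mem_univ, true_and, Prod.exists]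
    constructor
    · rintro ⟨⟨u, v, huv, rfl⟩, hc, hd⟩
      exact (heq u v c d huv hcd hc hd).symm
    · rintro rfl
      exact ⟨⟨c, d, hcd, rfl⟩, hmem c d⟩
  have hk : ∀ L ∈ 𝓛, L.card = (pFix G p a b₀).card := by
    intro L hL
    simp only [𝓛, mem_image, mem_filter, mem_univ, true_and, Prod.exists] at hL
    obtain ⟨u, v, huv, rfl⟩ := hL
    exact hcard u v huv
  have hge : p + 1 ≤ (pFix G p a b₀).card := by
    have := card_le_card hsub
    rwa [card_insert_of_notMem (fun h => S.ne_of_mem b₀ hb₀ a h rfl), S.card_cl b₀ hb₀] at this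
  have hlt : (pFix G p a b₀).card < p ^ 2 + 1 := by
    rw [← H.card, ← hcard x y hxy]
    refine card_lt_card (ssubset_univ_iff.2 fun h => hg1 (eq_one_of_forall (Ω := Ω) fun z => ?_))
    exact mem_pFix.1 (h.symm ▸ mem_univ z : z ∈ pFix G p x y) g hx hy hg
  have hr := count_at 𝓛 hk hlam a
  rw [H.card, Nat.add_sub_cancel, one_mul] at hr
  have hkp : (pFix G p a b₀).card = p + 1 := by
    obtain ⟨i, hi, he⟩ := (Nat.dvd_prime_pow H.prime).1 (Dvd.intro_left _ hr)
    interval_cases i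
    · rw [pow_zero] at he
      have := H.prime.two_le
      omega
    · rw [pow_one] at he; omega
    · omega
  exact (design p H.prime H.odd H.card 𝓛 (fun L hL => (hk L hL).trans hkp) hlam).1 rfl

end Cfsg.Agent.DoublyPrim
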