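/-
The stabiliser of a point: its Sylow subgroup and the kernel on a block system.
-/
import Cfsg.Agent.Lib.DoublyPrim.Setup

set_option autoImplicit false
set_option linter.style.haveILetI false
set_option linter.unusedSectionVars false

namespace Cfsg.Agent.DoublyPrim

open Finset MulAction

variable {G Ω : Type*} [Group G] [Finite G] [Fintype Ω] [DecidableEq Ω] [MulAction G Ω] [FaithfulSMul G Ω]
  {p : ℕ}

/-- a regular abelian Sylow subgroup of the stabiliser -/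
structure Syl (G Ω : Type*) [Group G] [MulAction G Ω] (a : Ω) (p : ℕ) where
  P : Subgroup G
  fix : ∀ z ∈ P, z • a = a
  card : Nat.card P = p ^ 2
  comm : ∀ z ∈ P, ∀ w ∈ P, z * w = w * z
  free : ∀ z ∈ P, ∀ y, y ≠ a → z • y = y → z = 1
  tran : ∀ y y', y ≠ a → y' ≠ a → ∃ z ∈ P, z • y = y'
  ppow : ∀ z ∈ P, ∃ n : ℕ, z ^ p ^ n = 1
  is_sylow : ¬ p ∣ ((P.subgroupOf (stabilizer G a)).index)

/-- the stabiliser of two points -/
def twoStab (G : Type*) {Ω : Type*} [Group G] [MulAction G Ω] (a b : Ω) : Subgroup G :=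
  stabilizer G a ⊓ stabilizer G b

theorem mem_twoStab {g : G} {a b : Ω} : g ∈ twoStab G a b ↔ g • a = a ∧ g • b = b := Iff.rfl

theorem card_stab (H : Hyp G Ω p) {a b : Ω} (hb : b ≠ a) :
    Nat.card (stabilizer G a) = p ^ 2 * Nat.card (twoStab G a b) := by
  classical
  have horb : orbit (stabilizer G a) b = ((univ.erase a : Finset Ω) : Set Ω) := by
    ext y
    rw [coe_erase]
    constructor
    · rintro ⟨⟨g, hg⟩, rfl⟩
      exact ⟨by simp, smul_ne hg hb⟩
    · rintro ⟨-, hy⟩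
      obtain ⟨g, hg1, hg2⟩ := H.trans a b a y hb.symm (fun h => hy h.symm)
      exact ⟨⟨g, hg1⟩, hg2⟩
  have hst : stabilizer (stabilizer G a) b = (twoStab G a b).subgroupOf (stabilizer G a) := by
    ext ⟨g, hg⟩
    rw [Subgroup.mem_subgroupOf, mem_twoStab, mem_stabilizer_iff]
    exact ⟨fun h => ⟨hg, h⟩, fun h => h.2⟩
  have h1 := Subgroup.card_eq_card_quotient_mul_card_subgroup (stabilizer (stabilizer G a) b)
  rw [← Nat.card_congr (orbitEquivQuotientStabilizer (stabilizer G a) b), horb] at h1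
  rw [h1, hst, Nat.card_congr (Subgroup.subgroupOfEquivOfLe (H := twoStab G a b) inf_le_left).toEquiv,
    Nat.card_coe_set_eq, Set.ncard_coe_finset, card_erase_of_mem (mem_univ a), card_univ, H.card,
    Nat.add_sub_cancel]

theorem not_dvd_twoStab (H : Hyp G Ω p) {a : Ω} (S : Sys G Ω a p) {x y : Ω} (hxy : x ≠ y) :
    ¬ p ∣ Nat.card (twoStab G x y) := by
  intro h
  haveI : Fact p.Prime := ⟨H.prime⟩
  obtain ⟨g, hg⟩ := exists_prime_orderOf_dvd_card' p h
  have h1 : (g : G) = 1 := not_dvd_two_point H S hxy g g.2.1 g.2.2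
    ⟨1, by rw [pow_one, ← Subgroup.coe_pow, ← hg, pow_orderOf_eq_one, Subgroup.coe_one]⟩
  rw [show g = 1 from Subtype.ext h1, orderOf_one] at hg
  exact H.prime.one_lt.ne hg

theorem exists_syl (H : Hyp G Ω p) {a : Ω} (S : Sys G Ω a p) : Nonempty (Syl G Ω a p) := by
  classical
  haveI : Fact p.Prime := ⟨H.prime⟩
  obtain ⟨b, hb⟩ : ∃ b : Ω, b ≠ a :=
    (univ.exists_mem_ne (by rw [card_univ, H.card]; have := Nat.one_lt_pow (n := 2) (by norm_num) H.prime.one_lt; omega) a).imp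
      fun b h => h.2
  obtain ⟨Q⟩ : Nonempty (Sylow p (stabilizer G a)) := inferInstance
  have hQ : Nat.card (Q : Subgroup (stabilizer G a)) = p ^ 2 := by
    rw [Q.card_eq_multiplicity, card_stab H hb, Nat.factorization_mul (pow_ne_zero _ H.prime.ne_zero) Nat.card_pos.ne',
      Finsupp.add_apply, Nat.factorization_eq_zero_of_not_dvd (not_dvd_twoStab H S hb.symm),
      Nat.factorization_pow_self H.prime, add_zero]
  have hfree : ∀ z ∈ (Q : Subgroup (stabilizer G a)), ∀ y, y ≠ a → (z : G) • y = y → z = 1 := by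
    intro z hz y hy hzy
    obtain ⟨n, hn⟩ := Q.isPGroup' ⟨z, hz⟩
    refine Subtype.ext (not_dvd_two_point H S hy.symm (z : G) z.2 hzy ⟨n, ?_⟩)
    exact congrArg (fun w : (Q : Subgroup (stabilizer G a)) => ((w : stabilizer G a) : G)) hn
  refine ⟨⟨(Q : Subgroup (stabilizer G a)).map (stabilizer G a).subtype, ?_, ?_, ?_, ?_, ?_, ?_, ?_⟩⟩
  · rintro _ ⟨z, -, rfl⟩
    exact z.2
  · rw [Subgroup.card_map_of_injective (stabilizer G a).subtype_injective, hQ]
  · rintro _ ⟨z, hz, rfl⟩ _ ⟨w, hw, rfl⟩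
    have hcc := IsPGroup.commutative_of_card_eq_prime_sq hQ
    exact congrArg (fun t : (Q : Subgroup (stabilizer G a)) => ((t : stabilizer G a) : G))
      (hcc ⟨z, hz⟩ ⟨w, hw⟩)
  · rintro _ ⟨z, hz, rfl⟩ y hy hzy
    rw [hfree z hz y hy hzy]
    rfl
  · intro y y' hy hy'
    let f : ↥(Q : Subgroup (stabilizer G a)) → {w : Ω // w ≠ a} := fun z => ⟨((z : stabilizer G a) : G) • y, smul_ne z.1.2 hy⟩
    have hinj : Function.Injective f := fun z w h => by
      have h' : ((z : stabilizer G a) : G) • y = ((w : stabilizer G a) : G) • y := congrArg Subtype.val h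
      have h1 := hfree (w.1⁻¹ * z.1) ((Q : Subgroup (stabilizer G a)).mul_mem (Subgroup.inv_mem _ w.2) z.2) y hy
        (by rw [Subgroup.coe_mul, Subgroup.coe_inv, mul_smul, h', inv_smul_smul])
      exact Subtype.ext (inv_mul_eq_one.1 h1).symm
    obtain ⟨z, hz⟩ := (hinj.bijective_of_nat_card_le (by
      rw [hQ, Nat.card_eq_fintype_card, Fintype.card_subtype_compl, Fintype.card_subtype_eq, H.card]; omega)).2 ⟨y', hy'⟩
    exact ⟨_, ⟨z.1, z.2, rfl⟩, congrArg Subtype.val hz⟩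
  · rintro _ ⟨z, hz, rfl⟩
    obtain ⟨n, hn⟩ := Q.isPGroup' ⟨z, hz⟩
    exact ⟨n, congrArg (fun w : (Q : Subgroup (stabilizer G a)) => ((w : stabilizer G a) : G)) hn⟩
  · rw [← Subgroup.comap_subtype, Subgroup.comap_map_eq_self_of_injective (stabilizer G a).subtype_injective]
    exact Q.not_dvd_index

namespace Sys

variable {a : Ω} (S : Sys G Ω a p)

/-- the kernel on the blocks -/
def ker : Subgroup G where
  carrier := {g | g • a = a ∧ ∀ y, y ≠ a → g • y ∈ S.cl y}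
  one_mem' := ⟨one_smul _ _, fun y hy => by rw [one_smul]; exact S.self_mem y hy⟩
  mul_mem' := fun {g h} hg hh => ⟨by rw [mul_smul, hh.1, hg.1], fun y hy => by
    rw [mul_smul, ← S.eq_of_mem y hy _ (hh.2 y hy)]
    exact hg.2 _ (smul_ne hh.1 hy)⟩
  inv_mem' := fun {g} hg => ⟨inv_fix hg.1, fun y hy => by
    have hy' := smul_ne (inv_fix hg.1) hy
    have := hg.2 _ hy'
    rw [smul_inv_smul] at this
    rw [S.eq_of_mem _ hy' y this]
    exact S.self_mem _ hy'⟩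

theorem mem_ker {g : G} : g ∈ S.ker ↔ g • a = a ∧ ∀ y, y ≠ a → g • y ∈ S.cl y := Iff.rfl

theorem cl_ker {g : G} (hg : g ∈ S.ker) {y : Ω} (hy : y ≠ a) : S.cl (g • y) = S.cl y :=
  S.eq_of_mem y hy _ (hg.2 y hy)

theorem ker_smul_mem {g : G} (hg : g ∈ S.ker) {y z : Ω} (hy : y ≠ a) (hz : z ∈ S.cl y) : g • z ∈ S.cl y := by
  rw [← S.eq_of_mem y hy z hz]
  exact hg.2 z (S.ne_of_mem y hy z hz)

theorem conj_mem_ker {g m : G} (hg : g • a = a) (hm : m ∈ S.ker) : g * m * g⁻¹ ∈ S.ker := by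
  refine ⟨by rw [mul_smul, mul_smul, inv_fix hg, hm.1, hg], fun y hy => ?_⟩
  have hy' := smul_ne (inv_fix hg) hy
  have := S.mem_smul hg hy' (hm.2 _ hy')
  rw [smul_inv_smul] at this
  rwa [mul_smul, mul_smul]

end Sys

theorem Syl.span {a : Ω} (H : Hyp G Ω p) (T : Syl G Ω a p) {u v : G} (hu : u ∈ T.P) (hv : v ∈ T.P) (hou : orderOf u = p)
    (hvu : v ∉ Subgroup.zpowers u) {w : G} (hw : w ∈ T.P) : ∃ i j : ℤ, u ^ i * v ^ j = w := by
  have hcomm : ∀ i j : ℤ, Commute (u ^ i) (v ^ j) := fun i j =>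
    T.comm _ (T.P.zpow_mem hu i) _ (T.P.zpow_mem hv j)
  let E : Subgroup G :=
    { carrier := {g | ∃ i j : ℤ, u ^ i * v ^ j = g}
      one_mem' := ⟨0, 0, by simp⟩
      mul_mem' := by
        rintro x y ⟨i, j, rfl⟩ ⟨i', j', rfl⟩
        refine ⟨i + i', j + j', ?_⟩
        rw [zpow_add, zpow_add]
        calc u ^ i * u ^ i' * (v ^ j * v ^ j') = u ^ i * (u ^ i' * v ^ j) * v ^ j' := by group
          _ = u ^ i * (v ^ j * u ^ i') * v ^ j' := by rw [(hcomm i' j).eq]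
          _ = u ^ i * v ^ j * (u ^ i' * v ^ j') := by group
      inv_mem' := by
        rintro x ⟨i, j, rfl⟩
        exact ⟨-i, -j, by rw [mul_inv_rev, ← zpow_neg, ← zpow_neg, (hcomm (-i) (-j)).eq]⟩ }
  have hEP : E ≤ T.P := by
    rintro x ⟨i, j, rfl⟩
    exact T.P.mul_mem (T.P.zpow_mem hu i) (T.P.zpow_mem hv j)
  have hlt : Subgroup.zpowers u < E := by
    refine lt_of_le_of_ne (Subgroup.zpowers_le.2 ⟨1, 0, by simp⟩) fun h => hvu ?_
    rw [h]
    exact ⟨0, 1, by simp⟩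
  obtain ⟨k, hk, he⟩ := (Nat.dvd_prime_pow H.prime).1 (T.card ▸ Subgroup.card_dvd_of_le hEP)
  have hk2 : k = 2 := by
    have h1 : Nat.card (Subgroup.zpowers u) < Nat.card E := by
      refine lt_of_le_of_ne (Subgroup.card_le_of_le hlt.le) fun h => hlt.ne ?_
      exact Subgroup.eq_of_le_of_card_ge hlt.le h.ge
    rw [Nat.card_zpowers, hou, he] at h1
    have h2 : 1 < k := (Nat.pow_lt_pow_iff_right H.prime.one_lt).1 (by rwa [pow_one])
    omega
  have : E = T.P := Subgroup.eq_of_le_of_card_ge hEP (by rw [he, hk2, T.card])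
  rw [← this] at hw
  exact hw

theorem Syl.ker_of_class {a b : Ω} (S : Sys G Ω a p) (T : Syl G Ω a p) (hb : b ≠ a) {z : G} (hz : z ∈ T.P)
    (h : z • b ∈ S.cl b) : z ∈ S.ker := by
  refine ⟨T.fix z hz, fun y hy => ?_⟩
  obtain ⟨w, hw, rfl⟩ := T.tran b y hb hy
  rw [← mul_smul, T.comm z hz w hw, mul_smul]
  exact S.mem_smul (T.fix w hw) hb h

/-- the generator of the part of the Sylow subgroup in the kernel -/
theorem exists_gen (H : Hyp G Ω p) {a : Ω} (S : Sys G Ω a p) (T : Syl G Ω a p) :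
    ∃ q, q ∈ T.P ∧ q ∈ S.ker ∧ orderOf q = p ∧ (∀ y, y ≠ a → ∀ z ∈ S.cl y, ∃ i < p, q ^ i • y = z) ∧
      ∀ w ∈ T.P, w ∈ S.ker → ∃ i < p, q ^ i = w := by
  classical
  haveI : Fact p.Prime := ⟨H.prime⟩
  obtain ⟨b, hb⟩ : ∃ b : Ω, b ≠ a :=
    (univ.exists_mem_ne (by rw [card_univ, H.card]; have := Nat.one_lt_pow (n := 2) (by norm_num) H.prime.one_lt; omega) a).imp
      fun b h => h.2
  have hcard : Nat.card (T.P ⊓ S.ker : Subgroup G) = p := by
    have e : (T.P ⊓ S.ker : Subgroup G) ≃ {z : Ω // z ∈ S.cl b} := by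
      refine Equiv.ofBijective (fun w => ⟨(w : G) • b, w.2.2.2 b hb⟩) ⟨fun v w h => ?_, fun z => ?_⟩
      · have h' : (v : G) • b = (w : G) • b := congrArg Subtype.val h
        have h1 := T.free ((w : G)⁻¹ * v) (T.P.mul_mem (T.P.inv_mem w.2.1) v.2.1) b hb
          (by rw [mul_smul, h', inv_smul_smul])
        exact Subtype.ext (inv_mul_eq_one.1 h1).symm
      · obtain ⟨w, hw, hwz⟩ := T.tran b z hb (S.ne_of_mem b hb z z.2)
        exact ⟨⟨w, hw, T.ker_of_class S hb hw (hwz ▸ z.2)⟩, Subtype.ext hwz⟩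
    rw [Nat.card_congr e, Nat.card_eq_fintype_card, Fintype.card_coe, S.card_cl b hb]
  obtain ⟨q, hq⟩ := exists_prime_orderOf_dvd_card' p (dvd_of_eq hcard.symm)
  have hord : orderOf (q : G) = p := by rw [Subgroup.orderOf_coe, hq]
  refine ⟨q, q.2.1, q.2.2, hord, fun y hy z hz => ?_, fun w hw hwk => ?_⟩
  · have himg : (range p).image (fun i => (q : G) ^ i • y) = S.cl y := by
      refine eq_of_subset_of_card_le (fun x hx => ?_) ?_
      · obtain ⟨i, -, rfl⟩ := mem_image.1 hx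
        exact S.ker_smul_mem (S.ker.pow_mem q.2.2 i) hy (S.self_mem y hy)
      · rw [card_image_of_injOn, card_range, S.card_cl y hy]
        intro i hi j hj hij
        simp only [coe_range, Set.mem_Iio] at hi hj
        have h1 := T.free (((q : G) ^ j)⁻¹ * (q : G) ^ i)
          (T.P.mul_mem (T.P.inv_mem (T.P.pow_mem q.2.1 j)) (T.P.pow_mem q.2.1 i)) y hy
          (by rw [mul_smul]; exact inv_smul_eq_iff.2 hij)
        rw [inv_mul_eq_one] at h1
        exact (pow_injOn_Iio_orderOf (hord.symm ▸ hj) (hord.symm ▸ hi) h1).symm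
    obtain ⟨i, hi, hiz⟩ := mem_image.1 (himg.symm ▸ hz)
    exact ⟨i, mem_range.1 hi, hiz⟩
  · have hmem : (⟨w, hw, hwk⟩ : (T.P ⊓ S.ker : Subgroup G)) ∈ Subgroup.zpowers q :=
      mem_zpowers_of_prime_card hcard (fun h => by rw [h, orderOf_one] at hq; exact H.prime.one_lt.ne hq)
    rw [← mem_powers_iff_mem_zpowers, mem_powers_iff_mem_range_orderOf, mem_image] at hmem
    obtain ⟨i, hi, hiw⟩ := hmem
    exact ⟨i, hq ▸ mem_range.1 hi, congrArg Subtype.val hiw⟩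

theorem eq_one_of_fix_class (H : Hyp G Ω p) {a b : Ω} (S : Sys G Ω a p) (T : Syl G Ω a p) (hb : b ≠ a)
    {m : G} (hm : m ∈ S.ker) (hfix : ∀ z ∈ S.cl b, m • z = z) : m = 1 := by
  classical
  haveI : Fintype G := Fintype.ofFinite G
  obtain ⟨q, hqP, hqk, hqo, hqt, -⟩ := exists_gen H S T
  let N : Subgroup G :=
    { carrier := {g | g ∈ S.ker ∧ ∀ z ∈ S.cl b, g • z = z}
      one_mem' := ⟨S.ker.one_mem, fun z _ => one_smul _ _⟩
      mul_mem' := fun {g h} hg hh => ⟨S.ker.mul_mem hg.1 hh.1, fun z hz => by rw [mul_smul, hh.2 z hz, hg.2 z hz]⟩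
      inv_mem' := fun {g} hg => ⟨S.ker.inv_mem hg.1, fun z hz => inv_smul_eq_iff.2 (hg.2 z hz).symm⟩ }
  have hNp : ¬ p ∣ Nat.card N := by
    intro h
    refine not_dvd_twoStab H S hb.symm (h.trans (Subgroup.card_dvd_of_le fun g hg => ?_))
    exact ⟨hg.1.1, hg.2 b (S.self_mem b hb)⟩
  have hconj : ∀ k ∈ S.ker, ∀ g ∈ N, k * g * k⁻¹ ∈ N := fun k hk g hg =>
    ⟨S.ker.mul_mem (S.ker.mul_mem hk hg.1) (S.ker.inv_mem hk), fun z hz => by
      rw [mul_smul, mul_smul, hg.2 _ (S.ker_smul_mem (S.ker.inv_mem hk) hb hz), smul_inv_smul]⟩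
  refine eq_one_of_forall (Ω := Ω) fun y => ?_
  rcases eq_or_ne y a with rfl | hy
  · exact hm.1
  let O : Ω → Finset Ω := fun z => univ.filter fun w => ∃ g ∈ N, g • z = w
  have hOmem : ∀ {z w : Ω}, w ∈ O z ↔ ∃ g ∈ N, g • z = w := fun {z w} => by simp [O]
  have hOeq : ∀ {z w : Ω}, w ∈ O z → O w = O z := by
    intro z w hw
    obtain ⟨g, hg, rfl⟩ := hOmem.1 hw
    ext x
    rw [hOmem, hOmem]
    constructor
    · rintro ⟨h, hh, rfl⟩; exact ⟨h * g, N.mul_mem hh hg, mul_smul _ _ _⟩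
    · rintro ⟨h, hh, rfl⟩; exact ⟨h * g⁻¹, N.mul_mem hh (N.inv_mem hg), by rw [mul_smul, inv_smul_smul]⟩
  have hcardO : ∀ z ∈ S.cl y, (O z).card = (O y).card := by
    intro z hz
    obtain ⟨i, -, rfl⟩ := hqt y hy z hz
    refine (card_nbij' (fun x => q ^ i • x) (fun x => (q ^ i)⁻¹ • x) (fun x hx => ?_) (fun x hx => ?_)
      (fun x _ => inv_smul_smul _ x) (fun x _ => smul_inv_smul _ x)).symm
    · obtain ⟨g, hg, rfl⟩ := hOmem.1 hx
      exact hOmem.2 ⟨_, hconj _ (S.ker.pow_mem hqk i) g hg, by simp [mul_smul]⟩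
    · obtain ⟨g, hg, rfl⟩ := hOmem.1 hx
      refine hOmem.2 ⟨_, hconj _ (S.ker.inv_mem (S.ker.pow_mem hqk i)) g hg, ?_⟩
      simp [mul_smul]
  have hsum := card_eq_sum_card_image O (S.cl y)
  rw [S.card_cl y hy, sum_const_nat (m := (O y).card) fun o ho => by
    obtain ⟨z, hz, rfl⟩ := mem_image.1 ho
    rw [← hcardO z hz]
    refine congrArg Finset.card ?_
    ext w
    rw [mem_filter]
    refine ⟨fun ⟨_, hw⟩ => hw ▸ hOmem.2 ⟨1, N.one_mem, one_smul _ _⟩, fun hw => ⟨?_, hOeq hw⟩⟩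
    obtain ⟨g, hg, rfl⟩ := hOmem.1 hw
    exact S.ker_smul_mem hg.1 hy hz] at hsum
  have hOd : (O y).card ∣ Nat.card N := by
    have hset : ((O y : Finset Ω) : Set Ω) = orbit N y := by
      ext w
      rw [mem_coe, hOmem]
      exact ⟨fun ⟨g, hg, h⟩ => ⟨⟨g, hg⟩, h⟩, fun ⟨g, h⟩ => ⟨g, g.2, h⟩⟩
    rw [← Set.ncard_coe_finset, hset, ← Nat.card_coe_set_eq, ← card_orbit_mul_card_stabilizer_eq_card_group_aux y]
    exact dvd_mul_right _ _
  rcases (Nat.dvd_prime H.prime).1 (Dvd.intro_left _ hsum.symm) with h1 | h1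
  · exact card_le_one.1 h1.le _ (hOmem.2 ⟨m, ⟨hm, hfix⟩, rfl⟩) _ (hOmem.2 ⟨1, N.one_mem, one_smul _ _⟩)
  · exact absurd (h1 ▸ hOd) hNp
where
  card_orbit_mul_card_stabilizer_eq_card_group_aux {N : Subgroup G} (y : Ω) :
      Nat.card (orbit N y) * Nat.card (stabilizer N y) = Nat.card N := by
    rw [Nat.card_congr (orbitEquivQuotientStabilizer N y), ← Subgroup.index, mul_comm,
      Subgroup.card_mul_index]

theorem commute_gen (H : Hyp G Ω p) {a b : Ω} (S : Sys G Ω a p) (T : Syl G Ω a p) (hb : b ≠ a) {q m : G}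
    (hq : q ∈ T.P) (hqk : q ∈ S.ker) (hqt : ∀ y, y ≠ a → ∀ z ∈ S.cl y, ∃ i < p, q ^ i • y = z)
    (hm : m ∈ S.ker) (hc : m * q = q * m) : ∃ i < p, q ^ i = m := by
  obtain ⟨i, hi, hib⟩ := hqt b hb _ (hm.2 b hb)
  refine ⟨i, hi, ?_⟩
  have h1 := eq_one_of_fix_class H S T hb (S.ker.mul_mem (S.ker.inv_mem (S.ker.pow_mem hqk i)) hm) fun z hz => by
    obtain ⟨j, -, rfl⟩ := hqt b hb z hz
    have hcj : m * q ^ j = q ^ j * m := (Commute.pow_right (show Commute m q from hc) j).eq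
    rw [mul_smul, inv_smul_eq_iff, ← mul_smul m, hcj, mul_smul, ← hib, ← mul_smul, ← mul_smul,
      ← pow_add, ← pow_add, add_comm]
  exact inv_mul_eq_one.1 h1

theorem sq_not_dvd_ker (H : Hyp G Ω p) {a b : Ω} (S : Sys G Ω a p) (T : Syl G Ω a p) (hb : b ≠ a) :
    ¬ p ^ 2 ∣ Nat.card S.ker := by
  haveI : Fact p.Prime := ⟨H.prime⟩
  let φ : S.ker →* Equiv.Perm {z : Ω // z ∈ S.cl b} :=
    { toFun := fun m =>
        { toFun := fun z => ⟨(m : G) • (z : Ω), S.ker_smul_mem m.2 hb z.2⟩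
          invFun := fun z => ⟨(m : G)⁻¹ • (z : Ω), S.ker_smul_mem (S.ker.inv_mem m.2) hb z.2⟩
          left_inv := fun z => Subtype.ext (inv_smul_smul _ _)
          right_inv := fun z => Subtype.ext (smul_inv_smul _ _) }
      map_one' := Equiv.ext fun z => Subtype.ext (one_smul G (z : Ω))
      map_mul' := fun m n => Equiv.ext fun z => Subtype.ext (mul_smul (m : G) n (z : Ω)) }
  have hinj : Function.Injective φ := (injective_iff_map_eq_one φ).2 fun m hm => Subtype.ext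
    (eq_one_of_fix_class H S T hb m.2 fun z hz => congrArg Subtype.val (Equiv.congr_fun hm ⟨z, hz⟩))
  intro h
  have h1 := h.trans (Subgroup.card_dvd_of_injective φ hinj)
  rw [Nat.card_perm, Nat.card_eq_fintype_card, Fintype.card_coe, S.card_cl b hb,
    ← Nat.mul_factorial_pred H.prime.ne_zero, pow_two] at h1
  have h2 := H.prime.dvd_factorial.1 (Nat.dvd_of_mul_dvd_mul_left H.prime.pos h1)
  have := H.prime.pos
  omega

end Cfsg.Agent.DoublyPrim
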