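/-
Either the Sylow subgroup of the stabiliser is normal or some block system has a non-solvable
kernel.
-/
import Cfsg.Agent.Lib.DoublyPrim.Local

set_option autoImplicit false
set_option linter.style.haveILetI false
set_option linter.unusedSectionVars false

namespace Cfsg.Agent.DoublyPrim

open Finset MulAction

theorem normal_transitive {p : ℕ} (hp : p.Prime) {α : Type*} [Finite α] (hα : Nat.card α = p)
    (R : Subgroup (Equiv.Perm α)) [IsPretransitive R α] (N : Subgroup R) [N.Normal] (hN : N ≠ ⊥) :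
    IsPretransitive N α := by
  haveI : IsPreprimitive R α := IsPreprimitive.of_prime_card (hα.symm ▸ hp)
  refine IsQuasiPreprimitive.isPretransitive_of_normal fun h => hN ?_
  rw [Subgroup.eq_bot_iff_forall]
  intro x hx
  refine Subtype.ext (Equiv.ext fun z => ?_)
  exact (h.symm ▸ Set.mem_univ z : z ∈ fixedPoints N α) ⟨x, hx⟩

theorem abelian_normal_of_solvable {X : Type*} [Group X] [Finite X] [Group.IsSolvable X] [Nontrivial X] :
    ∃ A : Subgroup X, A.Normal ∧ A ≠ ⊥ ∧ ∀ x ∈ A, ∀ y ∈ A, x * y = y * x := by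
  classical
  obtain ⟨n, hn⟩ := (Group.isSolvable_def X).1 inferInstance
  have hex : ∃ n, derivedSeries X n = ⊥ := ⟨n, hn⟩
  have hpos : 0 < Nat.find hex := by
    by_contra h
    have := Nat.find_spec hex
    rw [show Nat.find hex = 0 by omega, derivedSeries_zero] at this
    exact absurd this bot_ne_top.symm
  refine ⟨derivedSeries X (Nat.find hex - 1), derivedSeries_normal X _,
    Nat.find_min hex (by omega), fun x hx y hy => ?_⟩
  have h := Nat.find_spec hex
  rw [show Nat.find hex = Nat.find hex - 1 + 1 by omega, derivedSeries_succ] at h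
  have h1 := h.le (Subgroup.commutator_mem_commutator hx hy)
  rw [Subgroup.mem_bot, commutatorElement_eq_one_iff_mul_comm] at h1
  exact h1

/-- a solvable transitive group of prime degree has a normal subgroup of order `p` over the
kernel -/
theorem solvable_prime_degree {p : ℕ} (hp : p.Prime) {α : Type*} [Finite α] (hα : Nat.card α = p) {X : Type*}
    [Group X] [Finite X] [Group.IsSolvable X] (φ : X →* Equiv.Perm α)
    (htr : ∀ u v : α, ∃ x, φ x u = v) :
    ∃ A : Subgroup X, A.Normal ∧ Nat.card A = p * Nat.card φ.ker := by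
  haveI : IsPretransitive φ.range α := ⟨fun u v => by
    obtain ⟨x, hx⟩ := htr u v
    exact ⟨⟨φ x, x, rfl⟩, hx⟩⟩
  haveI : Group.IsSolvable φ.range := solvable_of_surjective φ.rangeRestrict_surjective
  haveI : Nontrivial α := Finite.one_lt_card_iff_nontrivial.1 (hα.symm ▸ hp.one_lt)
  haveI : Nontrivial φ.range := by
    obtain ⟨u, v, huv⟩ := exists_pair_ne α
    obtain ⟨x, hx⟩ := htr u v
    refine ⟨⟨⟨φ x, x, rfl⟩, 1, fun h => huv ?_⟩⟩
    have e : φ x = 1 := congrArg Subtype.val h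
    rw [← hx, e]
    rfl
  obtain ⟨A₀, hA₀n, hA₀ne, hA₀c⟩ := abelian_normal_of_solvable (X := φ.range)
  haveI := normal_transitive hp hα φ.range A₀ hA₀ne
  obtain ⟨u⟩ : Nonempty α := inferInstance
  have hcard : Nat.card A₀ = p := by
    rw [← hα]
    refine Nat.card_congr (Equiv.ofBijective (fun x : A₀ => x • u) ⟨fun x y hxy => ?_, fun v => exists_smul_eq A₀ u v⟩)
    refine Subtype.ext (Subtype.ext (Equiv.ext fun v => ?_))
    obtain ⟨z, hz⟩ := exists_smul_eq A₀ u v
    have hcx : x * z = z * x := Subtype.ext (hA₀c _ x.2 _ z.2)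
    have hcy : y * z = z * y := Subtype.ext (hA₀c _ y.2 _ z.2)
    show x • v = y • v
    rw [← hz, ← mul_smul, ← mul_smul, hcx, hcy, mul_smul, mul_smul, show x • u = y • u from hxy]
  refine ⟨A₀.comap φ.rangeRestrict, inferInstance, ?_⟩
  have h1 := Subgroup.card_mul_index (A₀.comap φ.rangeRestrict)
  rw [Subgroup.index_comap_of_surjective _ φ.rangeRestrict_surjective] at h1
  have h2 := A₀.card_mul_index
  have h3 := Subgroup.card_mul_index φ.ker
  rw [Subgroup.index_ker] at h3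
  rw [hcard] at h2
  refine Nat.eq_of_mul_eq_mul_right (Nat.pos_of_ne_zero A₀.index_ne_zero_of_finite) (h1.trans ?_)
  rw [← h3, ← h2]
  ring

/-- elements of `p`-power order lie in a normal subgroup of index prime to `p` -/
theorem mem_of_normal {X : Type*} [Group X] [Finite X] {p : ℕ} (hp : p.Prime) (A : Subgroup X) [A.Normal]
    (hA : ¬ p ∣ A.index) {x : X} (hx : ∃ n : ℕ, x ^ p ^ n = 1) : x ∈ A := by
  obtain ⟨n, hn⟩ := hx
  have h1 : orderOf (x : X ⧸ A) ∣ p ^ n := orderOf_dvd_of_pow_eq_one (by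
    rw [← QuotientGroup.mk_pow, hn, QuotientGroup.mk_one])
  obtain ⟨i, -, hi⟩ := (Nat.dvd_prime_pow hp).1 h1
  have h2 : p ^ i ∣ A.index := hi ▸ orderOf_dvd_natCard _
  rcases Nat.eq_zero_or_pos i with rfl | hpos
  · rw [pow_zero, orderOf_eq_one_iff, QuotientGroup.eq_one_iff] at hi
    exact hi
  · exact absurd ((dvd_pow_self p hpos.ne').trans h2) hA

variable {G Ω : Type*} [Group G] [Finite G] [Fintype Ω] [DecidableEq Ω] [MulAction G Ω] [FaithfulSMul G Ω]
  {p : ℕ} {a : Ω}

/-- the set of blocks -/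
abbrev Sys.Cls (S : Sys G Ω a p) : Type _ := {c : Finset Ω // c ∈ (univ.erase a).image S.cl}

theorem Sys.card_cls (H : Hyp G Ω p) (S : Sys G Ω a p) : Nat.card S.Cls = p := by
  rw [Nat.card_eq_fintype_card, Fintype.card_coe]
  have h := card_eq_sum_card_image S.cl (univ.erase a)
  rw [sum_const_nat (m := p) (fun c hc => by
    obtain ⟨y, hy, rfl⟩ := mem_image.1 hc
    have hy' : y ≠ a := (mem_erase.1 hy).1
    refine (congrArg Finset.card (Finset.ext fun z => ?_)).trans (S.card_cl y hy')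
    rw [mem_filter, mem_erase]
    exact ⟨fun ⟨⟨hz, _⟩, e⟩ => e ▸ S.self_mem z hz, fun hz => ⟨⟨S.ne_of_mem y hy' z hz, mem_univ _⟩, S.eq_of_mem y hy' z hz⟩⟩),
    card_erase_of_mem (mem_univ a), card_univ, H.card, Nat.add_sub_cancel, pow_two] at h
  exact (Nat.eq_of_mul_eq_mul_right H.prime.pos h).symm

/-- the action of the stabiliser on the blocks -/
noncomputable def Sys.classPerm (S : Sys G Ω a p) : stabilizer G a →* Equiv.Perm S.Cls where
  toFun g :=
    { toFun := fun c => ⟨c.1.image ((g : G) • ·), by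
        obtain ⟨y, hy, hc⟩ := mem_image.1 c.2
        rw [← hc, ← S.smul_cl g g.2 y (mem_erase.1 hy).1]
        exact mem_image_of_mem _ (mem_erase.2 ⟨smul_ne g.2 (mem_erase.1 hy).1, mem_univ _⟩)⟩
      invFun := fun c => ⟨c.1.image ((g : G)⁻¹ • ·), by
        obtain ⟨y, hy, hc⟩ := mem_image.1 c.2
        rw [← hc, ← S.smul_cl _ (inv_fix g.2) y (mem_erase.1 hy).1]
        exact mem_image_of_mem _ (mem_erase.2 ⟨smul_ne (inv_fix g.2) (mem_erase.1 hy).1, mem_univ _⟩)⟩
      left_inv := fun c => Subtype.ext (by simp [image_image, Function.comp_def])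
      right_inv := fun c => Subtype.ext (by simp [image_image, Function.comp_def]) }
  map_one' := Equiv.ext fun c => Subtype.ext (by simp)
  map_mul' g h := Equiv.ext fun c => Subtype.ext (by simp [image_image, Function.comp_def, mul_smul])

theorem Sys.classPerm_apply (S : Sys G Ω a p) (g : stabilizer G a) {y : Ω} (hy : y ≠ a) :
    ((S.classPerm g ⟨S.cl y, mem_image_of_mem _ (mem_erase.2 ⟨hy, mem_univ _⟩)⟩ : S.Cls) : Finset Ω) =
      S.cl ((g : G) • y) :=
  (S.smul_cl g g.2 y hy).symm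

theorem Sys.classPerm_eq_one (S : Sys G Ω a p) (g : stabilizer G a) :
    S.classPerm g = 1 ↔ (g : G) ∈ S.ker := by
  constructor
  · intro h
    refine ⟨g.2, fun y hy => ?_⟩
    have e : S.cl ((g : G) • y) = S.cl y := by rw [← S.classPerm_apply g hy, h]; rfl
    exact e ▸ S.self_mem _ (smul_ne g.2 hy)
  · intro h
    refine Equiv.ext fun c => Subtype.ext ?_
    obtain ⟨y, hy, hc⟩ := mem_image.1 c.2
    have := S.classPerm_apply g (mem_erase.1 hy).1
    rw [S.cl_ker h (mem_erase.1 hy).1] at this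
    have hc' : c = ⟨S.cl y, mem_image_of_mem _ hy⟩ := Subtype.ext hc.symm
    rw [hc']
    exact this

/-- `P` is normal in the stabiliser -/
def Syl.IsNormalIn (T : Syl G Ω a p) : Prop := ∀ g : G, g • a = a → ∀ z ∈ T.P, g * z * g⁻¹ ∈ T.P

theorem card_stab_factor (H : Hyp G Ω p) (S : Sys G Ω a p) : (Nat.card (stabilizer G a)).factorization p = 2 := by
  obtain ⟨b, hb⟩ : ∃ b : Ω, b ≠ a :=
    (univ.exists_mem_ne (by rw [card_univ, H.card]; have := Nat.one_lt_pow (n := 2) (by norm_num) H.prime.one_lt; omega) a).imp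
      fun b h => h.2
  rw [card_stab H hb, Nat.factorization_mul (pow_ne_zero _ H.prime.ne_zero) Nat.card_pos.ne',
    Finsupp.add_apply, Nat.factorization_eq_zero_of_not_dvd (not_dvd_twoStab H S hb.symm),
    Nat.factorization_pow_self H.prime, add_zero]

theorem le_sq_of_le_stab (H : Hyp G Ω p) (S : Sys G Ω a p) (E : Subgroup G) (hE : E ≤ stabilizer G a)
    {i : ℕ} (hi : p ^ i ∣ Nat.card E) : i ≤ 2 := by
  rw [← card_stab_factor H S]
  exact (H.prime.pow_dvd_iff_le_factorization Nat.card_pos.ne').1 (hi.trans (Subgroup.card_dvd_of_le hE))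

theorem gen_normal (H : Hyp G Ω p) (S : Sys G Ω a p) (T : Syl G Ω a p) (hsol : Group.IsSolvable S.ker)
    {q : G} (hqk : q ∈ S.ker) (hqo : orderOf q = p)
    (hqt : ∀ y, y ≠ a → ∀ z ∈ S.cl y, ∃ i < p, q ^ i • y = z) {g : G} (hg : g • a = a) :
    g * q * g⁻¹ ∈ Subgroup.zpowers q := by
  classical
  obtain ⟨b, hb⟩ : ∃ b : Ω, b ≠ a :=
    (univ.exists_mem_ne (by rw [card_univ, H.card]; have := Nat.one_lt_pow (n := 2) (by norm_num) H.prime.one_lt; omega) a).imp
      fun b h => h.2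
  let φ : S.ker →* Equiv.Perm {z : Ω // z ∈ S.cl b} :=
    { toFun := fun m =>
        { toFun := fun z => ⟨(m : G) • (z : Ω), S.ker_smul_mem m.2 hb z.2⟩
          invFun := fun z => ⟨(m : G)⁻¹ • (z : Ω), S.ker_smul_mem (S.ker.inv_mem m.2) hb z.2⟩
          left_inv := fun z => Subtype.ext (inv_smul_smul _ _)
          right_inv := fun z => Subtype.ext (smul_inv_smul _ _) }
      map_one' := Equiv.ext fun z => Subtype.ext (one_smul G (z : Ω))
      map_mul' := fun m n => Equiv.ext fun z => Subtype.ext (mul_smul (m : G) n (z : Ω)) }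
  have hker : φ.ker = ⊥ := (MonoidHom.ker_eq_bot_iff φ).2 ((injective_iff_map_eq_one φ).2 fun m hm => Subtype.ext
    (eq_one_of_fix_class H S T hb m.2 fun z hz => congrArg Subtype.val (Equiv.congr_fun hm ⟨z, hz⟩)))
  have hα : Nat.card {z : Ω // z ∈ S.cl b} = p := by
    rw [Nat.card_eq_fintype_card, Fintype.card_coe, S.card_cl b hb]
  obtain ⟨A, hAn, hA⟩ := solvable_prime_degree H.prime hα φ fun u v => by
    obtain ⟨i, -, hi⟩ := hqt b hb u u.2
    obtain ⟨j, -, hj⟩ := hqt b hb v v.2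
    refine ⟨⟨(q ^ j) * (q ^ i)⁻¹, S.ker.mul_mem (S.ker.pow_mem hqk j) (S.ker.inv_mem (S.ker.pow_mem hqk i))⟩,
      Subtype.ext ?_⟩
    show (q ^ j * (q ^ i)⁻¹) • (u : Ω) = v
    rw [mul_smul, ← hi, inv_smul_smul, hj]
  rw [hker, Subgroup.card_bot, mul_one] at hA
  have hidx : ¬ p ∣ A.index := by
    intro h
    refine sq_not_dvd_ker H S T hb ?_
    rw [← A.card_mul_index, hA, pow_two]
    exact Nat.mul_dvd_mul_left p h
  have hqp : q ^ p = 1 := by have := pow_orderOf_eq_one q; rwa [hqo] at this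
  have hq : (⟨q, hqk⟩ : S.ker) ∈ A :=
    mem_of_normal H.prime A hidx ⟨1, Subtype.ext (by rw [Subgroup.coe_pow, pow_one, hqp]; rfl)⟩
  have hgq : (⟨g * q * g⁻¹, S.conj_mem_ker hg hqk⟩ : S.ker) ∈ A :=
    mem_of_normal H.prime A hidx ⟨1, Subtype.ext (by
      rw [Subgroup.coe_pow, pow_one, conj_pow, hqp, mul_one, mul_inv_cancel]; rfl)⟩
  have hAz : A.map S.ker.subtype = Subgroup.zpowers q := by
    refine (Subgroup.eq_of_le_of_card_ge (Subgroup.zpowers_le.2 (show q ∈ A.map S.ker.subtype from Subgroup.mem_map_of_mem S.ker.subtype hq)) ?_).symm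
    rw [Subgroup.card_map_of_injective S.ker.subtype_injective, hA, Nat.card_zpowers, hqo]
  rw [← hAz]
  exact ⟨_, hgq, rfl⟩

theorem syl_normal_of_solvable (H : Hyp G Ω p) (S : Sys G Ω a p) (T : Syl G Ω a p) {q : G} (hqP : q ∈ T.P)
    (hqk : q ∈ S.ker) (hqo : orderOf q = p)
    (hqt : ∀ y, y ≠ a → ∀ z ∈ S.cl y, ∃ i < p, q ^ i • y = z)
    (hCn : ∀ g : G, g • a = a → ∀ z ∈ stabilizer G a ⊓ Subgroup.centralizer {q},
      g * z * g⁻¹ ∈ stabilizer G a ⊓ Subgroup.centralizer {q})
    (hsol : Group.IsSolvable (stabilizer G a ⊓ Subgroup.centralizer {q} : Subgroup G)) : T.IsNormalIn := by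
  classical
  set C : Subgroup G := stabilizer G a ⊓ Subgroup.centralizer {q} with hC
  obtain ⟨b, hb⟩ : ∃ b : Ω, b ≠ a :=
    (univ.exists_mem_ne (by rw [card_univ, H.card]; have := Nat.one_lt_pow (n := 2) (by norm_num) H.prime.one_lt; omega) a).imp
      fun b h => h.2
  have hPC : T.P ≤ C := fun z hz => ⟨T.fix z hz, Subgroup.mem_centralizer_singleton_iff.2 (T.comm z hz q hqP)⟩
  let φ : C →* Equiv.Perm S.Cls := S.classPerm.comp (Subgroup.inclusion inf_le_left)
  have hker : Nat.card φ.ker = p := by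
    refine (Nat.card_congr (α := φ.ker) (β := Subgroup.zpowers q)
      { toFun := fun x => ⟨((x : C) : G), ?_⟩
        invFun := fun x => ⟨⟨x, ?_⟩, ?_⟩
        left_inv := fun x => rfl
        right_inv := fun x => rfl }).trans ((Nat.card_zpowers q).trans hqo)
    · have h1 : ((x : C) : G) ∈ S.ker := (S.classPerm_eq_one _).1 x.2
      obtain ⟨i, -, hi⟩ := commute_gen H S T hb hqP hqk hqt h1
        (Subgroup.mem_centralizer_singleton_iff.1 (x : C).2.2)
      rw [← hi]
      exact Subgroup.npow_mem_zpowers q i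
    · exact (Subgroup.zpowers_le.2 (hPC hqP)) x.2
    · exact (S.classPerm_eq_one _).2 ((Subgroup.zpowers_le.2 hqk) x.2)
  obtain ⟨A, hAn, hA⟩ := solvable_prime_degree H.prime (S.card_cls H) φ fun u v => by
    obtain ⟨y, hy, hu⟩ := mem_image.1 u.2
    obtain ⟨y', hy', hv⟩ := mem_image.1 v.2
    obtain ⟨z, hz, hzy⟩ := T.tran y y' (mem_erase.1 hy).1 (mem_erase.1 hy').1
    refine ⟨⟨z, hPC hz⟩, Subtype.ext ?_⟩
    rw [show u = ⟨S.cl y, mem_image_of_mem _ hy⟩ from Subtype.ext hu.symm, ← hv, ← hzy]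
    exact S.classPerm_apply _ (mem_erase.1 hy).1
  rw [hker, ← pow_two] at hA
  have hidx : ¬ p ∣ A.index := by
    intro h
    have := le_sq_of_le_stab H S C inf_le_left (i := 3)
      (by rw [← A.card_mul_index, hA, pow_succ]; exact Nat.mul_dvd_mul_left _ h)
    omega
  have hmem : ∀ x : G, ∀ hx : x ∈ C, (∃ n : ℕ, x ^ p ^ n = 1) → (⟨x, hx⟩ : C) ∈ A := fun x hx ⟨n, hn⟩ =>
    mem_of_normal H.prime A hidx ⟨n, Subtype.ext (by rw [Subgroup.coe_pow, hn]; rfl)⟩
  have hAP : A.map C.subtype = T.P := by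
    refine (Subgroup.eq_of_le_of_card_ge (fun z hz => Subgroup.mem_map_of_mem C.subtype (hmem z (hPC hz) (T.ppow z hz))) ?_).symm
    rw [Subgroup.card_map_of_injective C.subtype_injective, hA, T.card]
  intro g hg z hz
  rw [← hAP]
  refine ⟨_, hmem _ (hCn g hg z (hPC hz)) ?_, rfl⟩
  obtain ⟨n, hn⟩ := T.ppow z hz
  exact ⟨n, by rw [conj_pow, hn, mul_one, mul_inv_cancel]⟩

/-- a central `p`-element of a perfect group with abelian Sylow `p`-subgroups is trivial -/
theorem central_trivial {X : Type*} [Group X] [Finite X] {p : ℕ} [Fact p.Prime] (hperf : commutator X = ⊤)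
    (hab : ∀ (P : Sylow p X), ∀ x ∈ (P : Subgroup X), ∀ y ∈ (P : Subgroup X), x * y = y * x)
    {z : X} (hz : ∀ x, z * x = x * z) (hzo : z ^ p = 1) : z = 1 := by
  obtain ⟨P⟩ : Nonempty (Sylow p X) := inferInstance
  haveI : (P : Subgroup X).FiniteIndex := inferInstance
  let f : ↥(P : Subgroup X) →* Abelianization ↥(P : Subgroup X) := Abelianization.of
  have key : ∀ (k : ℕ) (g₀ : X), g₀⁻¹ * z ^ k * g₀ ∈ (P : Subgroup X) → g₀⁻¹ * z ^ k * g₀ = z ^ k := by
    intro k g₀ _
    rw [mul_assoc, (Commute.pow_left (show Commute z g₀ from hz g₀) k).eq, inv_mul_cancel_left]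
  have h1 := MonoidHom.transfer_eq_pow f z key
  have h2 : MonoidHom.transfer f z = 1 :=
    Abelianization.commutator_subset_ker (MonoidHom.transfer f) (hperf ▸ Subgroup.mem_top z)
  rw [h2] at h1
  have h3 : (⟨z ^ (P : Subgroup X).index, MonoidHom.transfer_eq_pow_aux z key⟩ : ↥(P : Subgroup X)) ∈
      commutator ↥(P : Subgroup X) := by
    rw [← Abelianization.ker_of]
    exact h1.symm
  have h4 : commutator ↥(P : Subgroup X) = ⊥ := by
    rw [commutator_def, eq_bot_iff, Subgroup.commutator_le]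
    intro x _ y _
    rw [Subgroup.mem_bot, commutatorElement_eq_one_iff_mul_comm]
    exact Subtype.ext (hab P _ x.2 _ y.2)
  rw [h4, Subgroup.mem_bot] at h3
  have h5 : z ^ (P : Subgroup X).index = 1 := congrArg Subtype.val h3
  have h6 : z ^ p.gcd (P : Subgroup X).index = 1 := pow_gcd_eq_one.2 ⟨hzo, h5⟩
  rwa [((Fact.out : p.Prime).coprime_iff_not_dvd.2 P.not_dvd_index).gcd_eq_one, pow_one] at h6

theorem exists_residual (C : Subgroup G) (hC : ¬ Group.IsSolvable C) :
    ∃ D : Subgroup G, D ≤ C ∧ D ≠ ⊥ ∧ ⁅D, D⁆ = D ∧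
      ∀ g : G, (∀ z ∈ C, g * z * g⁻¹ ∈ C) → ∀ z ∈ D, g * z * g⁻¹ ∈ D := by
  let D : ℕ → Subgroup G := fun n => n.rec C fun _ E => ⁅E, E⁆
  have hD0 : D 0 = C := rfl
  have hDs : ∀ n, D (n + 1) = ⁅D n, D n⁆ := fun n => rfl
  have hmap : ∀ n, D n = (derivedSeries C n).map C.subtype := by
    intro n
    induction n with
    | zero => rw [hD0, derivedSeries_zero, ← MonoidHom.range_eq_map, Subgroup.range_subtype]
    | succ n ih => rw [hDs, ih, derivedSeries_succ, Subgroup.map_commutator]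
  have hle : ∀ n, D (n + 1) ≤ D n := fun n => by
    rw [hDs, Subgroup.commutator_le]
    exact fun x hx y hy => (D n).mul_mem ((D n).mul_mem ((D n).mul_mem hx hy) ((D n).inv_mem hx)) ((D n).inv_mem hy)
  have hleC : ∀ n, D n ≤ C := fun n => by
    induction n with
    | zero => exact le_of_eq hD0
    | succ n ih => exact (hle n).trans ih
  have hnorm : ∀ n, ∀ g : G, (∀ z ∈ C, g * z * g⁻¹ ∈ C) → (D n).map (MulAut.conj g).toMonoidHom = D n := by
    intro n
    induction n with
    | zero =>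
      intro g hg
      rw [hD0]
      refine Subgroup.eq_of_le_of_card_ge ?_ (le_of_eq (Nat.card_congr (C.equivMapOfInjective _ (MulAut.conj g).injective).toEquiv))
      rintro _ ⟨z, hz, rfl⟩
      exact hg z hz
    | succ n ih => intro g hg; rw [hDs, Subgroup.map_commutator, ih g hg]
  obtain ⟨n, hn⟩ : ∃ n, D (n + 1) = D n := by
    by_contra h
    have hstr : ∀ n, Nat.card (D n) + n ≤ Nat.card C := by
      intro n
      induction n with
      | zero => rw [add_zero]; exact le_of_eq (by rw [hD0])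
      | succ n ih =>
        have : Nat.card (D (n + 1)) < Nat.card (D n) := by
          refine lt_of_le_of_ne (Subgroup.card_le_of_le (hle n)) fun he => h ⟨n, ?_⟩
          exact Subgroup.eq_of_le_of_card_ge (hle n) he.ge
        omega
    have := hstr (Nat.card C + 1)
    omega
  refine ⟨D n, hleC n, fun h0 => hC ((Group.isSolvable_def C).2 ⟨n, ?_⟩), by rw [← hDs, hn], fun g hg z hz => ?_⟩
  · rw [hmap, Subgroup.map_eq_bot_iff_of_injective _ C.subtype_injective] at h0
    exact h0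
  · rw [← hnorm n g hg]
    exact ⟨z, hz, rfl⟩

theorem exists_sys_of_nonsolvable (H : Hyp G Ω p) (S : Sys G Ω a p) (T : Syl G Ω a p) {q : G}
    (hqP : q ∈ T.P) (hqk : q ∈ S.ker) (hqo : orderOf q = p)
    (hqt : ∀ y, y ≠ a → ∀ z ∈ S.cl y, ∃ i < p, q ^ i • y = z)
    (hCn : ∀ g : G, g • a = a → ∀ z ∈ stabilizer G a ⊓ Subgroup.centralizer {q},
      g * z * g⁻¹ ∈ stabilizer G a ⊓ Subgroup.centralizer {q})
    (hsol : ¬ Group.IsSolvable (stabilizer G a ⊓ Subgroup.centralizer {q} : Subgroup G)) :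
    ∃ S' : Sys G Ω a p, ¬ Group.IsSolvable S'.ker := by
  classical
  haveI : Fact p.Prime := ⟨H.prime⟩
  set C : Subgroup G := stabilizer G a ⊓ Subgroup.centralizer {q} with hC
  obtain ⟨D, hDC, hDne, hDp, hDn'⟩ := exists_residual C hsol
  have hDn : ∀ g : G, g • a = a → ∀ z ∈ D, g * z * g⁻¹ ∈ D := fun g hg => hDn' g (hCn g hg)
  have hDa : D ≤ stabilizer G a := fun z hz => (hDC hz).1
  have hDperf : commutator D = ⊤ := by
    refine Subgroup.map_injective D.subtype_injective ?_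
    rw [← MonoidHom.range_eq_map, Subgroup.range_subtype, commutator_def, Subgroup.map_commutator,
      ← MonoidHom.range_eq_map, Subgroup.range_subtype, hDp]
  have hq1 : q ≠ 1 := fun h => by rw [h, orderOf_one] at hqo; exact H.prime.one_lt.ne hqo
  have hqD : q ∉ D := by
    intro hq
    refine hq1 ?_
    have := central_trivial (p := p) hDperf (fun P x hx y hy => ?_) (z := ⟨q, hq⟩)
      (fun x => Subtype.ext (Subgroup.mem_centralizer_singleton_iff.1 (hDC x.2).2).symm)
      (Subtype.ext (by rw [Subgroup.coe_pow, ← hqo, pow_orderOf_eq_one]; rfl))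
    · exact congrArg Subtype.val this
    · obtain ⟨i, hi⟩ := IsPGroup.iff_card.1 P.isPGroup'
      have hi2 : i ≤ 2 := le_sq_of_le_stab H S D hDa (hi ▸ Subgroup.card_subgroup_dvd_card _)
      interval_cases i
      · rw [pow_zero] at hi
        haveI : Subsingleton ↥(P : Subgroup D) := (Nat.card_eq_one_iff_unique.1 hi).1
        exact congrArg Subtype.val (Subsingleton.elim ((⟨x, hx⟩ : ↥(P : Subgroup D)) * ⟨y, hy⟩) (⟨y, hy⟩ * ⟨x, hx⟩))
      · rw [pow_one] at hi
        haveI := isCyclic_of_prime_card hi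
        exact congrArg Subtype.val (IsMulCommutative.is_comm.comm (⟨x, hx⟩ : ↥(P : Subgroup D)) ⟨y, hy⟩)
      · exact congrArg Subtype.val (IsPGroup.commutative_of_card_eq_prime_sq hi ⟨x, hx⟩ ⟨y, hy⟩)
  obtain ⟨b, hb⟩ : ∃ b : Ω, b ≠ a :=
    (univ.exists_mem_ne (by rw [card_univ, H.card]; have := Nat.one_lt_pow (n := 2) (by norm_num) H.prime.one_lt; omega) a).imp
      fun b h => h.2
  -- transitivity on the blocks
  have hnt : ∀ y, y ≠ a → ∀ y', y' ≠ a → ∃ d ∈ D, d • y ∈ S.cl y' := by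
    haveI : IsPretransitive S.classPerm.range S.Cls := ⟨fun u v => by
      obtain ⟨y, hy, hu⟩ := mem_image.1 u.2
      obtain ⟨y', hy', hv⟩ := mem_image.1 v.2
      obtain ⟨z, hz, hzy⟩ := T.tran y y' (mem_erase.1 hy).1 (mem_erase.1 hy').1
      refine ⟨⟨_, ⟨⟨z, T.fix z hz⟩, rfl⟩⟩, Subtype.ext ?_⟩
      show ((S.classPerm ⟨z, T.fix z hz⟩ u : S.Cls) : Finset Ω) = v.1
      rw [show u = ⟨S.cl y, mem_image_of_mem _ hy⟩ from Subtype.ext hu.symm, ← hv, ← hzy]
      exact S.classPerm_apply _ (mem_erase.1 hy).1⟩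
    let N : Subgroup S.classPerm.range := (D.subgroupOf (stabilizer G a)).map S.classPerm.rangeRestrict
    haveI : N.Normal := by
      haveI : (D.subgroupOf (stabilizer G a)).Normal := ⟨fun z hz g => hDn g g.2 z hz⟩
      exact Subgroup.Normal.map inferInstance _ S.classPerm.rangeRestrict_surjective
    have hN : N ≠ ⊥ := by
      intro h
      refine hDne (eq_bot_iff.2 fun d hd => ?_)
      have hall : ∀ e ∈ D, e ∈ Subgroup.zpowers q := by
        intro e he
        have h1 : S.classPerm.rangeRestrict ⟨e, hDa he⟩ ∈ N := Subgroup.mem_map_of_mem _ he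
        rw [h, Subgroup.mem_bot] at h1
        have h2 : e ∈ S.ker := (S.classPerm_eq_one ⟨e, hDa he⟩).1 (congrArg Subtype.val h1)
        obtain ⟨i, -, hi⟩ := commute_gen H S T hb hqP hqk hqt h2
          (Subgroup.mem_centralizer_singleton_iff.1 (hDC he).2)
        rw [← hi]
        exact Subgroup.npow_mem_zpowers q i
      have : ⁅D, D⁆ = ⊥ := by
        rw [eq_bot_iff, Subgroup.commutator_le]
        intro x hx y hy
        obtain ⟨i, rfl⟩ := Subgroup.mem_zpowers_iff.1 (hall x hx)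
        obtain ⟨j, rfl⟩ := Subgroup.mem_zpowers_iff.1 (hall y hy)
        rw [Subgroup.mem_bot, commutatorElement_eq_one_iff_mul_comm, ← zpow_add, ← zpow_add, add_comm]
      rw [← hDp, this] at hd
      exact hd
    haveI := normal_transitive H.prime (S.card_cls H) S.classPerm.range N hN
    intro y hy y' hy'
    obtain ⟨⟨x, hxN⟩, hx⟩ := exists_smul_eq N
      (⟨S.cl y, mem_image_of_mem _ (mem_erase.2 ⟨hy, mem_univ _⟩)⟩ : S.Cls)
      ⟨S.cl y', mem_image_of_mem _ (mem_erase.2 ⟨hy', mem_univ _⟩)⟩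
    obtain ⟨e, he, hex⟩ := hxN
    refine ⟨(e : G), he, ?_⟩
    subst hex
    have h1 : S.cl ((e : G) • y) = S.cl y' := (S.classPerm_apply e hy).symm.trans (congrArg Subtype.val hx)
    exact h1 ▸ S.self_mem _ (smul_ne e.2 hy)
  -- orbits of `D`
  let cl : Ω → Finset Ω := fun y => univ.filter fun z => ∃ d ∈ D, d • y = z
  have hmem : ∀ {y z : Ω}, z ∈ cl y ↔ ∃ d ∈ D, d • y = z := fun {y z} => by simp [cl]
  have hself : ∀ y, y ∈ cl y := fun y => hmem.2 ⟨1, D.one_mem, one_smul _ _⟩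
  have heq : ∀ y, ∀ z ∈ cl y, cl z = cl y := by
    intro y z hz
    obtain ⟨d, hd, rfl⟩ := hmem.1 hz
    ext x
    rw [hmem, hmem]
    constructor
    · rintro ⟨e, he, rfl⟩; exact ⟨e * d, D.mul_mem he hd, mul_smul _ _ _⟩
    · rintro ⟨e, he, rfl⟩; exact ⟨e * d⁻¹, D.mul_mem he (D.inv_mem hd), by rw [mul_smul, inv_smul_smul]⟩
  have hne : ∀ y, y ≠ a → ∀ z ∈ cl y, z ≠ a := by
    intro y hy z hz
    obtain ⟨d, hd, rfl⟩ := hmem.1 hz
    exact smul_ne (hDa hd) hy
  have hsmul : ∀ g : G, g • a = a → ∀ y, y ≠ a → cl (g • y) = (cl y).image (g • ·) := by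
    intro g hg y _
    ext x
    rw [hmem, mem_image]
    constructor
    · rintro ⟨d, hd, rfl⟩
      refine ⟨(g⁻¹ * d * g⁻¹⁻¹) • y, hmem.2 ⟨_, hDn _ (inv_fix hg) d hd, rfl⟩, ?_⟩
      simp only [inv_inv, mul_smul, smul_inv_smul]
    · rintro ⟨_, hz, rfl⟩
      obtain ⟨d, hd, rfl⟩ := hmem.1 hz
      exact ⟨g * d * g⁻¹, hDn g hg d hd, by simp only [mul_smul, inv_smul_smul]⟩
  have hcb : ∀ y, y ≠ a → (cl y).card = (cl b).card := by
    intro y hy
    obtain ⟨z, hz, rfl⟩ := T.tran b y hb hy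
    rw [hsmul z (T.fix z hz) b hb, card_image_of_injective _ (MulAction.injective z)]
  have hdvd : (cl b).card ∣ p ^ 2 := by
    have h := card_eq_sum_card_image cl (univ.erase a)
    rw [sum_const_nat (m := (cl b).card) (fun c hc => by
      obtain ⟨y, hy, rfl⟩ := mem_image.1 hc
      have hy' : y ≠ a := (mem_erase.1 hy).1
      rw [← hcb y hy']
      refine congrArg Finset.card (Finset.ext fun z => ?_)
      rw [mem_filter, mem_erase]
      exact ⟨fun ⟨_, e⟩ => e ▸ hself z, fun hz => ⟨⟨hne y hy' z hz, mem_univ _⟩, heq y z hz⟩⟩),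
      card_erase_of_mem (mem_univ a), card_univ, H.card, Nat.add_sub_cancel] at h
    exact Dvd.intro_left _ h.symm
  have hge : p ≤ (cl b).card := by
    rw [← S.card_cls H, Nat.card_eq_fintype_card, Fintype.card_coe]
    refine le_trans (card_le_card (fun c hc => ?_)) (card_image_le (f := S.cl))
    obtain ⟨y, hy, rfl⟩ := mem_image.1 hc
    obtain ⟨d, hd, hdy⟩ := hnt b hb y (mem_erase.1 hy).1
    exact mem_image.2 ⟨d • b, hmem.2 ⟨d, hd, rfl⟩, S.eq_of_mem y (mem_erase.1 hy).1 _ hdy⟩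
  have hcard : (cl b).card = p := by
    obtain ⟨i, hi, he⟩ := (Nat.dvd_prime_pow H.prime).1 hdvd
    interval_cases i
    · rw [pow_zero] at he; have := H.prime.two_le; omega
    · rw [he, pow_one]
    · exfalso
      obtain ⟨PD⟩ : Nonempty (Sylow p D) := inferInstance
      have hpd : p ^ 2 ∣ Nat.card D := by
        have hset : ((cl b : Finset Ω) : Set Ω) = orbit D b := by
          ext w
          rw [mem_coe, hmem]
          exact ⟨fun ⟨g, hg, h⟩ => ⟨⟨g, hg⟩, h⟩, fun ⟨g, h⟩ => ⟨g, g.2, h⟩⟩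
        have h1 := Subgroup.card_eq_card_quotient_mul_card_subgroup (stabilizer D b)
        rw [← Nat.card_congr (orbitEquivQuotientStabilizer D b), ← hset, Nat.card_coe_set_eq,
          Set.ncard_coe_finset, he] at h1
        rw [h1]
        exact dvd_mul_right _ _
      let E := (PD : Subgroup D).map D.subtype
      have hEp : IsPGroup p E := PD.isPGroup'.map _
      have hqp : IsPGroup p (Subgroup.zpowers q) :=
        IsPGroup.of_card (n := 1) (by rw [Nat.card_zpowers, hqo, pow_one])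
      have hnorm : E ≤ Subgroup.normalizer (Subgroup.zpowers q : Set G) := by
        refine le_trans ?_ (Subgroup.centralizer_le_normalizer (Subgroup.zpowers q : Set G))
        rw [Subgroup.zpowers_eq_closure, Subgroup.centralizer_closure]
        rintro _ ⟨x, -, rfl⟩
        exact (hDC x.2).2
      obtain ⟨j, hj⟩ := IsPGroup.iff_card.1 (hEp.to_sup_of_normal_right' hqp hnorm)
      have hsupa : E ⊔ Subgroup.zpowers q ≤ stabilizer G a :=
        sup_le (by rintro _ ⟨x, -, rfl⟩; exact hDa x.2) (Subgroup.zpowers_le.2 hqk.1)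
      have hj2 : j ≤ 2 := le_sq_of_le_stab H S _ hsupa (hj ▸ dvd_rfl)
      have hE2 : p ^ 2 ∣ Nat.card E := by
        rw [Subgroup.card_map_of_injective D.subtype_injective]
        exact PD.pow_dvd_card_of_pow_dvd_card hpd
      have hEeq : E = E ⊔ Subgroup.zpowers q := by
        refine Subgroup.eq_of_le_of_card_ge le_sup_left ?_
        rw [hj]
        exact le_trans (Nat.pow_le_pow_right H.prime.pos hj2) (Nat.le_of_dvd Nat.card_pos hE2)
      have : q ∈ E := hEeq.symm ▸ Subgroup.mem_sup_right (Subgroup.mem_zpowers q)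
      obtain ⟨x, -, hx⟩ := this
      exact hqD (hx ▸ x.2)
  let S' : Sys G Ω a p :=
    { cl := cl
      self_mem := fun y _ => hself y
      ne_of_mem := hne
      eq_of_mem := fun y _ => heq y
      smul_cl := hsmul
      card_cl := fun y hy => (hcb y hy).trans hcard }
  refine ⟨S', fun hsolv => ?_⟩
  have hDk : D ≤ S'.ker := fun d hd => ⟨hDa hd, fun y _ => hmem.2 ⟨d, hd, rfl⟩⟩
  haveI := hsolv
  have hDsol : Group.IsSolvable D := Group.isSolvable_of_isSolvable_injective (Subgroup.inclusion_injective hDk)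
  obtain ⟨n, hn⟩ := (Group.isSolvable_def D).1 hDsol
  have hall : ∀ m, derivedSeries D m = ⊤ := fun m => by
    induction m with
    | zero => rfl
    | succ m ih => rw [derivedSeries_succ, ih, ← commutator_def, hDperf]
  refine hDne (eq_bot_iff.2 fun d hd => ?_)
  have h := hn.le ((hall n).symm ▸ Subgroup.mem_top (⟨d, hd⟩ : D))
  rw [Subgroup.mem_bot] at h ⊢
  exact congrArg Subtype.val h

/-- the reduction -/
theorem reduce (H : Hyp G Ω p) (S : Sys G Ω a p) (T : Syl G Ω a p) :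
    T.IsNormalIn ∨ ∃ S' : Sys G Ω a p, ¬ Group.IsSolvable S'.ker := by
  by_cases hM : Group.IsSolvable S.ker
  swap
  · exact Or.inr ⟨S, hM⟩
  obtain ⟨q, hqP, hqk, hqo, hqt, -⟩ := exists_gen H S T
  have hCn : ∀ g : G, g • a = a → ∀ z ∈ stabilizer G a ⊓ Subgroup.centralizer {q},
      g * z * g⁻¹ ∈ stabilizer G a ⊓ Subgroup.centralizer {q} := by
    intro g hg z hz
    refine ⟨mem_stabilizer_iff.2 (by rw [mul_smul, mul_smul, inv_fix hg, mem_stabilizer_iff.1 hz.1, hg]),
      Subgroup.mem_centralizer_singleton_iff.2 ?_⟩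
    obtain ⟨k, hk⟩ := Subgroup.mem_zpowers_iff.1 (gen_normal H S T hM hqk hqo hqt (inv_fix hg))
    rw [inv_inv] at hk
    have hzq : Commute z (q ^ k) := Commute.zpow_right (Subgroup.mem_centralizer_singleton_iff.1 hz.2) k
    rw [hk] at hzq
    calc g * z * g⁻¹ * q = g * (z * (g⁻¹ * q * g)) * g⁻¹ := by group
      _ = g * ((g⁻¹ * q * g) * z) * g⁻¹ := by rw [hzq.eq]
      _ = q * (g * z * g⁻¹) := by group
  by_cases hC : Group.IsSolvable (stabilizer G a ⊓ Subgroup.centralizer {q} : Subgroup G)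
  · exact Or.inl (syl_normal_of_solvable H S T hqP hqk hqo hqt hCn hC)
  · exact Or.inr (exists_sys_of_nonsolvable H S T hqP hqk hqo hqt hCn hC)

end Cfsg.Agent.DoublyPrim
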