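/-
A non-solvable kernel on the blocks: a second block system appears.
-/
import Cfsg.Agent.Lib.DoublyPrim.Reduce
import Cfsg.Agent.S0675

set_option autoImplicit false
set_option linter.style.haveILetI false
set_option linter.unusedSectionVars false

namespace Cfsg.Agent.DoublyPrim

open Finset MulAction

theorem solvable_perm_three {α : Type*} [Fintype α] [DecidableEq α] (h : Fintype.card α = 3) :
    Group.IsSolvable (Equiv.Perm α) := by
  haveI : Nontrivial α := Fintype.one_lt_card_iff_nontrivial.1 (by omega)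
  haveI : Fact (Nat.Prime 3) := ⟨Nat.prime_three⟩
  have h3 : Nat.card (alternatingGroup α) = 3 := by
    have h2 := two_mul_card_alternatingGroup (α := α)
    rw [Fintype.card_perm, h, ← Nat.card_eq_fintype_card] at h2
    have : Nat.factorial 3 = 6 := rfl
    omega
  haveI : IsCyclic (alternatingGroup α) := isCyclic_of_prime_card h3
  haveI : Group.IsSolvable (alternatingGroup α) := Group.isSolvable_of_comm fun x y => IsMulCommutative.is_comm.comm x y
  exact solvable_of_ker_le_range (alternatingGroup α).subtype Equiv.Perm.sign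
    (by rw [Subgroup.range_subtype]; rfl)

variable {G Ω : Type*} [Group G] [Finite G] [Fintype Ω] [DecidableEq Ω] [MulAction G Ω] [FaithfulSMul G Ω]
  {p : ℕ} {a b : Ω}

theorem kernel_two_trans (H : Hyp G Ω p) (S : Sys G Ω a p) (T : Syl G Ω a p)
    (hM : ¬ Group.IsSolvable S.ker) :
    5 ≤ p ∧ ∀ y, y ≠ a → ∀ z ∈ S.cl y, ∀ z' ∈ S.cl y, z ≠ y → z' ≠ y →
      ∃ m ∈ S.ker, m • y = y ∧ m • z = z' := by
  classical
  obtain ⟨q, -, hqk, -, hqt, -⟩ := exists_gen H S T
  suffices main : ∀ y, y ≠ a → 5 ≤ p ∧ ∀ z ∈ S.cl y, ∀ z' ∈ S.cl y, z ≠ y → z' ≠ y →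
      ∃ m ∈ S.ker, m • y = y ∧ m • z = z' by
    obtain ⟨b, hb⟩ : ∃ b : Ω, b ≠ a :=
      (univ.exists_mem_ne (by rw [card_univ, H.card]; have := Nat.one_lt_pow (n := 2) (by norm_num) H.prime.one_lt; omega) a).imp
        fun b h => h.2
    exact ⟨(main b hb).1, fun y hy => (main y hy).2⟩
  intro y hy
  let α := {z : Ω // z ∈ S.cl y}
  let φ : S.ker →* Equiv.Perm α :=
    { toFun := fun m =>
        { toFun := fun z => ⟨(m : G) • (z : Ω), S.ker_smul_mem m.2 hy z.2⟩
          invFun := fun z => ⟨(m : G)⁻¹ • (z : Ω), S.ker_smul_mem (S.ker.inv_mem m.2) hy z.2⟩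
          left_inv := fun z => Subtype.ext (inv_smul_smul _ _)
          right_inv := fun z => Subtype.ext (smul_inv_smul _ _) }
      map_one' := Equiv.ext fun z => Subtype.ext (one_smul G (z : Ω))
      map_mul' := fun m n => Equiv.ext fun z => Subtype.ext (mul_smul (m : G) n (z : Ω)) }
  have hinj : Function.Injective φ := (injective_iff_map_eq_one φ).2 fun m hm => Subtype.ext
    (eq_one_of_fix_class H S T hy m.2 fun z hz => congrArg Subtype.val (Equiv.congr_fun hm ⟨z, hz⟩))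
  have hnsol : ¬ Group.IsSolvable φ.range := fun h => hM (by
    haveI := h
    exact Group.isSolvable_of_isSolvable_injective (MonoidHom.rangeRestrict_injective_iff.2 hinj))
  have hcard : Fintype.card α = p := by rw [Fintype.card_coe, S.card_cl y hy]
  haveI : IsPretransitive φ.range α := ⟨fun u v => by
    obtain ⟨i, -, hi⟩ := hqt y hy u u.2
    obtain ⟨j, -, hj⟩ := hqt y hy v v.2
    refine ⟨⟨_, ⟨⟨q ^ j * (q ^ i)⁻¹, S.ker.mul_mem (S.ker.pow_mem hqk j) (S.ker.inv_mem (S.ker.pow_mem hqk i))⟩, rfl⟩⟩,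
      Subtype.ext ?_⟩
    show (q ^ j * (q ^ i)⁻¹) • (u : Ω) = v
    rw [mul_smul, ← hi, inv_smul_smul, hj]⟩
  have h2 := (Cfsg.Agent.S0675.result (hcard.symm ▸ H.prime) φ.range).resolve_left hnsol
  refine ⟨?_, fun z hz z' hz' hzy hzy' => ?_⟩
  · by_contra h5
    have : p = 3 := by
      have h2' := H.prime.two_le
      have hne := H.odd
      have h4 : p ≠ 4 := fun h => by have := H.prime; rw [h] at this; exact absurd this (by decide)
      omega
    haveI := solvable_perm_three (α := α) (by rw [hcard, this])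
    exact hnsol inferInstance
  · have key : ∀ u v u' v' : α, u ≠ v → u' ≠ v' → ∃ g : φ.range, g • u = u' ∧ g • v = v' :=
      fun u v u' v' h h' => is_two_pretransitive_iff.1 h2 h h'
    obtain ⟨⟨_, m, rfl⟩, hm1, hm2⟩ := key ⟨y, S.self_mem y hy⟩ ⟨z, hz⟩ ⟨y, S.self_mem y hy⟩ ⟨z', hz'⟩
      (fun h => hzy (congrArg Subtype.val h).symm) (fun h => hzy' (congrArg Subtype.val h).symm)
    exact ⟨m, m.2, congrArg Subtype.val hm1, congrArg Subtype.val hm2⟩

/-- the stabiliser in the kernel -/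
def Sys.kstab (S : Sys G Ω a p) (y : Ω) : Subgroup G := S.ker ⊓ stabilizer G y

theorem card_kstab (H : Hyp G Ω p) (S : Sys G Ω a p) (T : Syl G Ω a p) {y : Ω} (hy : y ≠ a) :
    Nat.card (S.kstab y) * p = Nat.card S.ker := by
  classical
  obtain ⟨q, -, hqk, -, hqt, -⟩ := exists_gen H S T
  have hst : stabilizer S.ker y = (S.kstab y).subgroupOf S.ker := by
    ext ⟨g, hg⟩
    rw [Subgroup.mem_subgroupOf, mem_stabilizer_iff]
    exact ⟨fun h => ⟨hg, h⟩, fun h => h.2⟩
  have hset : orbit S.ker y = ((S.cl y : Finset Ω) : Set Ω) := by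
    ext z
    constructor
    · rintro ⟨m, rfl⟩; exact m.2.2 y hy
    · intro hz
      obtain ⟨i, -, rfl⟩ := hqt y hy z hz
      exact ⟨⟨q ^ i, S.ker.pow_mem hqk i⟩, rfl⟩
  have h1 := Subgroup.card_eq_card_quotient_mul_card_subgroup (stabilizer S.ker y)
  rw [← Nat.card_congr (orbitEquivQuotientStabilizer S.ker y), hset, Nat.card_coe_set_eq, Set.ncard_coe_finset,
    S.card_cl y hy, hst, Nat.card_congr (Subgroup.subgroupOfEquivOfLe (H := S.kstab y) inf_le_left).toEquiv] at h1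
  rw [h1, mul_comm]

theorem kstab_eq (H : Hyp G Ω p) (S : Sys G Ω a p) (T : Syl G Ω a p) {y z : Ω} (hy : y ≠ a) (hz : z ≠ a)
    (h : ∀ m ∈ S.ker, m • y = y → m • z = z) : S.kstab y = S.kstab z := by
  refine Subgroup.eq_of_le_of_card_ge (fun m hm => ⟨hm.1, h m hm.1 hm.2⟩) ?_
  exact Nat.le_of_mul_le_mul_right (le_of_eq ((card_kstab H S T hz).trans (card_kstab H S T hy).symm)) H.prime.pos

theorem card_filter_fix (H : Subgroup G) (y : Ω) [Fintype H] :
    (univ.filter fun m : H => (m : G) • y = y).card = Nat.card ↥(H ⊓ stabilizer G y) := by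
  rw [← Fintype.card_subtype, ← Nat.card_eq_fintype_card]
  exact Nat.card_congr
    { toFun := fun m => ⟨m.1.1, m.1.2, m.2⟩
      invFun := fun m => ⟨⟨m.1, m.2.1⟩, m.2.2⟩
      left_inv := fun m => rfl
      right_inv := fun m => rfl }

theorem sum_stab_orbit (H : Subgroup G) (s : Finset Ω) {z₀ : Ω} (hz₀ : z₀ ∈ s)
    (hinv : ∀ m ∈ H, ∀ z ∈ s, m • z ∈ s) (htr : ∀ z ∈ s, ∃ m ∈ H, m • z₀ = z) :
    ∑ z ∈ s, Nat.card ↥(H ⊓ stabilizer G z) = Nat.card H := by
  classical
  haveI : Fintype H := Fintype.ofFinite _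
  have hconst : ∀ z ∈ s, (univ.filter fun m : H => (m : G) • z₀ = z).card = Nat.card ↥(H ⊓ stabilizer G z) := by
    intro z hz
    obtain ⟨m₁, hm₁, rfl⟩ := htr z hz
    rw [← card_filter_fix]
    refine card_nbij' (fun m => m * ⟨m₁, hm₁⟩⁻¹) (fun m => m * ⟨m₁, hm₁⟩) (fun m hm => ?_) (fun m hm => ?_)
      (fun m _ => inv_mul_cancel_right m _) (fun m _ => mul_inv_cancel_right m _)
    · simp only [coe_filter, mem_univ, true_and, Set.mem_ofPred_eq] at hm ⊢
      show ((m : G) * m₁⁻¹) • m₁ • z₀ = m₁ • z₀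
      rw [mul_smul, inv_smul_smul]
      exact hm
    · simp only [coe_filter, mem_univ, true_and, Set.mem_ofPred_eq] at hm ⊢
      show ((m : G) * m₁) • z₀ = m₁ • z₀
      rw [mul_smul]
      exact hm
  rw [sum_congr rfl fun z hz => (hconst z hz).symm,
    ← card_eq_sum_card_fiberwise (fun (m : H) _ => hinv m m.2 z₀ hz₀), card_univ, Nat.card_eq_fintype_card]

/-- some stabiliser in the kernel is not transitive on some block -/
theorem exists_intransitive (H : Hyp G Ω p) (S : Sys G Ω a p) (T : Syl G Ω a p)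
    (h2 : ∀ y, y ≠ a → ∀ z ∈ S.cl y, ∀ z' ∈ S.cl y, z ≠ y → z' ≠ y →
      ∃ m ∈ S.ker, m • y = y ∧ m • z = z') :
    ∃ y z z', y ≠ a ∧ z ≠ a ∧ z ∉ S.cl y ∧ z' ∈ S.cl z ∧ ∀ m ∈ S.ker, m • y = y → m • z ≠ z' := by
  classical
  by_contra hcon
  simp only [not_exists, not_and, not_forall, not_not, exists_prop] at hcon
  haveI : Fintype S.ker := Fintype.ofFinite _
  have hp := H.prime
  set X := (univ : Finset Ω).erase a with hX
  have hXc : X.card = p ^ 2 := by rw [hX, card_erase_of_mem (mem_univ a), card_univ, H.card]; omega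
  let π : S.ker → ℕ := fun m => (X.filter fun y => (m : G) • y = y).card
  have s1 : (∑ m : S.ker, π m) = p * Nat.card S.ker := by
    have e := sum_card_bipartiteAbove_eq_sum_card_bipartiteBelow
      (s := (univ : Finset S.ker)) (t := X) (r := fun (m : S.ker) y => (m : G) • y = y)
    refine e.trans ?_
    have hy : ∀ y ∈ X, (bipartiteBelow (fun (m : S.ker) y => (m : G) • y = y) univ y).card = Nat.card S.ker / p := by
      intro y hy
      rw [bipartiteBelow, card_filter_fix, ← card_kstab H S T (mem_erase.1 hy).1, Nat.mul_div_cancel _ hp.pos]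
      rfl
    rw [sum_congr rfl hy, sum_const, smul_eq_mul, hXc, pow_two, mul_assoc,
      Nat.mul_div_cancel' (Dvd.intro_left _ (card_kstab H S T (mem_erase.1 (card_pos.1 (by
        rw [hXc]; exact pow_pos hp.pos 2)).choose_spec).1))]
  have hinner : ∀ y ∈ X, ∑ z ∈ X, Nat.card ↥(S.kstab y ⊓ stabilizer G z) = (p + 1) * Nat.card (S.kstab y) := by
    intro y hy
    have hya := (mem_erase.1 hy).1
    rw [← sum_fiberwise_of_maps_to (g := S.cl) (t := X.image S.cl) (fun z hz => mem_image_of_mem _ hz)]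
    have hfib : ∀ c ∈ X.image S.cl, ∑ z ∈ X.filter (fun z => S.cl z = c), Nat.card ↥(S.kstab y ⊓ stabilizer G z) =
        if c = S.cl y then 2 * Nat.card (S.kstab y) else Nat.card (S.kstab y) := by
      intro c hc
      obtain ⟨w, hw, rfl⟩ := mem_image.1 hc
      have hwa := (mem_erase.1 hw).1
      have hset : X.filter (fun z => S.cl z = S.cl w) = S.cl w := by
        ext z
        rw [mem_filter, hX, mem_erase]
        exact ⟨fun ⟨⟨hz, _⟩, e⟩ => e ▸ S.self_mem z hz,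
          fun hz => ⟨⟨S.ne_of_mem w hwa z hz, mem_univ _⟩, S.eq_of_mem w hwa z hz⟩⟩
      rw [hset]
      split_ifs with hcy
      · rw [hcy, ← add_sum_erase _ _ (S.self_mem y hya), two_mul]
        congr 1
        · exact congrArg (fun K : Subgroup G => Nat.card K) (inf_eq_left.2 inf_le_right)
        · obtain ⟨z₀, hz₀⟩ := card_pos.1 (show 0 < ((S.cl y).erase y).card by
            rw [card_erase_of_mem (S.self_mem y hya), S.card_cl y hya]; have := hp.two_le; omega)
          refine sum_stab_orbit (S.kstab y) _ hz₀ (fun m hm z hz => ?_) (fun z hz => ?_)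
          · rw [mem_erase] at hz ⊢
            refine ⟨fun h => hz.1 ?_, S.ker_smul_mem hm.1 hya hz.2⟩
            rw [← inv_smul_smul m z, h]
            exact inv_smul_eq_iff.2 (mem_stabilizer_iff.1 hm.2).symm
          · obtain ⟨m, hm, hmy, hmz⟩ := h2 y hya z₀ (mem_erase.1 hz₀).2 z (mem_erase.1 hz).2
              (mem_erase.1 hz₀).1 (mem_erase.1 hz).1
            exact ⟨m, ⟨hm, hmy⟩, hmz⟩
      · refine sum_stab_orbit (S.kstab y) _ (S.self_mem w hwa) (fun m hm z hz => S.ker_smul_mem hm.1 hwa hz)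
          (fun z hz => ?_)
        have hwy : w ∉ S.cl y := fun h => hcy (S.eq_of_mem y hya w h)
        obtain ⟨m, hm, hmy, hmz⟩ := hcon y w z hya hwa hwy hz
        exact ⟨m, ⟨hm, hmy⟩, hmz⟩
    rw [sum_congr rfl hfib]
    have hcls : (X.image S.cl).card = p := by
      have h := card_eq_sum_card_image S.cl X
      rw [sum_const_nat (m := p) (fun c hc => by
        obtain ⟨w, hw, rfl⟩ := mem_image.1 hc
        have hwa := (mem_erase.1 hw).1
        refine (congrArg Finset.card (Finset.ext fun z => ?_)).trans (S.card_cl w hwa)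
        rw [mem_filter, hX, mem_erase]
        exact ⟨fun ⟨⟨hz, _⟩, e⟩ => e ▸ S.self_mem z hz,
          fun hz => ⟨⟨S.ne_of_mem w hwa z hz, mem_univ _⟩, S.eq_of_mem w hwa z hz⟩⟩), hXc, pow_two] at h
      exact (Nat.eq_of_mul_eq_mul_right hp.pos h).symm
    rw [← add_sum_erase _ _ (mem_image_of_mem S.cl hy), if_pos rfl,
      sum_congr rfl fun c hc => if_neg (ne_of_mem_erase hc), sum_const, smul_eq_mul,
      card_erase_of_mem (mem_image_of_mem _ hy), hcls]
    have key : ∀ r K : ℕ, 0 < r → 2 * K + (r - 1) * K = (r + 1) * K := fun r K hr => by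
      obtain ⟨r', rfl⟩ : ∃ r', r = r' + 1 := ⟨r - 1, by omega⟩
      rw [Nat.add_sub_cancel]
      ring
    exact key p _ hp.pos
  have s2 : (∑ m : S.ker, π m ^ 2) = p * (p + 1) * Nat.card S.ker := by
    have e := sum_card_bipartiteAbove_eq_sum_card_bipartiteBelow
      (s := (univ : Finset S.ker)) (t := X ×ˢ X) (r := fun (m : S.ker) yz => (m : G) • yz.1 = yz.1 ∧ (m : G) • yz.2 = yz.2)
    have hl : ∀ m : S.ker, π m ^ 2 = (bipartiteAbove
        (fun (m : S.ker) (yz : Ω × Ω) => (m : G) • yz.1 = yz.1 ∧ (m : G) • yz.2 = yz.2) (X ×ˢ X) m).card := fun m => by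
      rw [bipartiteAbove, filter_product (fun y => (m : G) • y = y) (fun y => (m : G) • y = y), card_product, pow_two]
    rw [sum_congr rfl fun m _ => hl m]
    refine e.trans ?_
    rw [sum_product]
    have hy : ∀ y ∈ X, ∑ z ∈ X, (bipartiteBelow
        (fun (m : S.ker) (yz : Ω × Ω) => (m : G) • yz.1 = yz.1 ∧ (m : G) • yz.2 = yz.2) univ (y, z)).card =
        (p + 1) * (Nat.card S.ker / p) := by
      intro y hy
      have hz : ∀ z ∈ X, (bipartiteBelow (fun (m : S.ker) (yz : Ω × Ω) => (m : G) • yz.1 = yz.1 ∧ (m : G) • yz.2 = yz.2)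
          univ (y, z)).card = Nat.card ↥(S.kstab y ⊓ stabilizer G z) := fun z _ => by
        rw [bipartiteBelow, ← Fintype.card_subtype, ← Nat.card_eq_fintype_card]
        exact Nat.card_congr
          { toFun := fun m => ⟨m.1.1, ⟨m.1.2, m.2.1⟩, m.2.2⟩
            invFun := fun m => ⟨⟨m.1, m.2.1.1⟩, m.2.1.2, m.2.2⟩
            left_inv := fun m => rfl
            right_inv := fun m => rfl }
      rw [sum_congr rfl hz, hinner y hy, ← card_kstab H S T (mem_erase.1 hy).1, Nat.mul_div_cancel _ hp.pos]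
    rw [sum_congr rfl hy, sum_const, smul_eq_mul, hXc]
    obtain ⟨y, hy⟩ := card_pos.1 (show 0 < X.card by rw [hXc]; exact pow_pos hp.pos 2)
    rw [← card_kstab H S T (mem_erase.1 hy).1, Nat.mul_div_cancel _ hp.pos]
    ring
  -- the conjugates of `q`
  obtain ⟨q, hqP, hqk, hqo, hqt, -⟩ := exists_gen H S T
  obtain ⟨b, hb⟩ : ∃ b : Ω, b ≠ a :=
    (univ.exists_mem_ne (by rw [card_univ, H.card]; have := Nat.one_lt_pow (n := 2) (by norm_num) hp.one_lt; omega) a).imp
      fun b h => h.2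
  let cj : S.ker → S.ker := fun m => m * ⟨q, hqk⟩ * m⁻¹
  set I := univ.image cj with hI
  have hIc : Nat.card S.ker ≤ p * I.card := by
    rw [Nat.card_eq_fintype_card, ← card_univ]
    refine card_le_mul_card_image univ p fun c hc => ?_
    obtain ⟨m₀, -, rfl⟩ := mem_image.1 hc
    refine le_trans (card_le_card (t := (range p).image fun i => m₀ * ⟨q, hqk⟩ ^ i) fun m hm => ?_)
      (card_image_le.trans (card_range p).le)
    rw [mem_filter] at hm
    have he : (m₀⁻¹ * m : S.ker) * ⟨q, hqk⟩ = ⟨q, hqk⟩ * (m₀⁻¹ * m) := by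
      have h' := congrArg (fun x => m₀⁻¹ * x * m) hm.2
      simp only [cj, mul_assoc, inv_mul_cancel, mul_one, inv_mul_cancel_left] at h'
      simpa [mul_assoc] using h'
    obtain ⟨i, hi, hie⟩ := commute_gen H S T hb hqP hqk hqt (m₀⁻¹ * m : S.ker).2 (congrArg Subtype.val he)
    refine mem_image.2 ⟨i, mem_range.2 hi, ?_⟩
    rw [show (⟨q, hqk⟩ : S.ker) ^ i = m₀⁻¹ * m from Subtype.ext hie, mul_inv_cancel_left]
  have hIπ : ∀ m ∈ I, π m = 0 := by
    intro m hm
    obtain ⟨x, -, rfl⟩ := mem_image.1 hm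
    rw [card_eq_zero, filter_eq_empty_iff]
    intro y hy hfix
    have hya := (mem_erase.1 hy).1
    have h' : ((x : G) * q * (x : G)⁻¹) • y = y := hfix
    rw [mul_smul, mul_smul, ← eq_inv_smul_iff] at h'
    have := T.free q hqP _ (smul_ne (inv_fix x.2.1) hya) h'
    rw [this, orderOf_one] at hqo
    exact hp.one_lt.ne hqo
  have hbound : (I.card : ℤ) * ((p : ℤ) + 1) ^ 2 ≤ ((p : ℤ) + 1) * Nat.card S.ker := by
    have e : ∑ m : S.ker, (((p : ℤ) + 1) - π m) ^ 2 = ((p : ℤ) + 1) * Nat.card S.ker := by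
      have e1 : (∑ m : S.ker, (π m : ℤ)) = p * Nat.card S.ker := by exact_mod_cast s1
      have e2 : (∑ m : S.ker, (π m : ℤ) ^ 2) = p * (p + 1) * Nat.card S.ker := by exact_mod_cast s2
      simp only [sub_sq, sum_add_distrib, sum_sub_distrib, ← mul_sum, e1, e2, sum_const, card_univ,
        nsmul_eq_mul, ← Nat.card_eq_fintype_card]
      ring
    rw [← e]
    refine le_trans ?_ (sum_le_sum_of_subset_of_nonneg (subset_univ I) fun m _ _ => sq_nonneg _)
    rw [sum_congr rfl fun m hm => by rw [hIπ m hm, Nat.cast_zero, sub_zero], sum_const, nsmul_eq_mul]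
  have hpos : 0 < Nat.card S.ker := Nat.card_pos
  have hI' : (Nat.card S.ker : ℤ) ≤ p * I.card := by exact_mod_cast hIc
  have hp1 : (0 : ℤ) < (p : ℤ) + 1 := by omega
  have h3 : (I.card : ℤ) * ((p : ℤ) + 1) ≤ Nat.card S.ker := by
    refine le_of_mul_le_mul_left ?_ hp1
    calc ((p : ℤ) + 1) * ((I.card : ℤ) * (p + 1)) = (I.card : ℤ) * ((p : ℤ) + 1) ^ 2 := by ring
      _ ≤ _ := hbound
  nlinarith

open scoped Classical in
/-- incidence -/
noncomputable def inc (S : Sys G Ω a p) (b : Ω) (O : Finset Ω) (x z : Ω) : ℕ :=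
  if ∃ m ∈ S.ker, m • b = x ∧ m⁻¹ • z ∈ O then 1 else 0

/-- walks -/
noncomputable def walk (S : Sys G Ω a p) (η : G) (b : Ω) (O : Finset Ω) : ℕ → Ω → ℕ
  | 0, z => if z = b then 1 else 0
  | n + 1, z => ∑ x : Ω, walk S η b O n x * inc S b O ((η ^ n)⁻¹ • x) ((η ^ n)⁻¹ • z)

/-- the stabilisers of two points in different blocks coincide somewhere -/
theorem exists_equiv (H : Hyp G Ω p) (S : Sys G Ω a p) (T : Syl G Ω a p) (hM : ¬ Group.IsSolvable S.ker) :
    ∃ y z, y ≠ a ∧ z ≠ a ∧ z ∉ S.cl y ∧ ∀ m ∈ S.ker, m • y = y → m • z = z := by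
  classical
  haveI : Fact p.Prime := ⟨H.prime⟩
  have hp := H.prime
  obtain ⟨hp5, h2⟩ := kernel_two_trans H S T hM
  by_contra hcon
  simp only [not_exists, not_and] at hcon
  obtain ⟨b, z₁, z₂, hb, hz₁, hz₁b, hz₂, hsep⟩ := exists_intransitive H S T h2
  obtain ⟨q, hqP, hqk, hqo, hqt, hall⟩ := exists_gen H S T
  obtain ⟨η, hηP, hη⟩ := T.tran b z₁ hb hz₁
  have hqp : q ^ p = 1 := by have := pow_orderOf_eq_one q; rwa [hqo] at this
  let φ : ZMod p → G := fun t => q ^ t.val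
  have hφadd : ∀ s t, φ (s + t) = φ s * φ t := fun s t => by
    simp only [φ]
    rw [← pow_add, ZMod.val_add, ← pow_eq_pow_mod _ hqp]
  have hφ0 : φ 0 = 1 := by simp [φ]
  have hφk : ∀ t, φ t ∈ S.ker := fun t => S.ker.pow_mem hqk _
  have hφP : ∀ t, φ t ∈ T.P := fun t => T.P.pow_mem hqP _
  have hφneg : ∀ t, φ (-t) = (φ t)⁻¹ := fun t => eq_inv_of_mul_eq_one_left (by rw [← hφadd, neg_add_cancel, hφ0])
  have hφtr : ∀ y, y ≠ a → ∀ z ∈ S.cl y, ∃ t, φ t • y = z := fun y hy z hz => by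
    obtain ⟨i, hi, rfl⟩ := hqt y hy z hz
    exact ⟨(i : ZMod p), by simp only [φ, ZMod.val_cast_of_lt hi]⟩
  have hφinj : ∀ y, y ≠ a → ∀ s t, φ s • y = φ t • y → s = t := fun y hy s t h => by
    have h1 := T.free (φ (-t) * φ s) (T.P.mul_mem (hφP _) (hφP _)) y hy (by rw [mul_smul, h, hφneg, inv_smul_smul])
    rw [← hφadd] at h1
    have hv : (-t + s).val = 0 := pow_injOn_Iio_orderOf (x := q)
      (show (-t + s).val ∈ Set.Iio (orderOf q) by rw [Set.mem_Iio, hqo]; exact ZMod.val_lt _)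
      (show 0 ∈ Set.Iio (orderOf q) by rw [Set.mem_Iio, hqo]; exact hp.pos) (by simp only [pow_zero]; exact h1)
    rw [ZMod.val_eq_zero, neg_add_eq_zero] at hv
    exact hv.symm
  -- the orbit of `z₁` under the stabiliser of `b`
  let O : Finset Ω := univ.filter fun z => ∃ m ∈ S.ker, m • b = b ∧ m • z₁ = z
  have hOmem : ∀ {z : Ω}, z ∈ O ↔ ∃ m ∈ S.ker, m • b = b ∧ m • z₁ = z := fun {z} => by simp [O]
  have hOinv : ∀ h ∈ S.ker, h • b = b → ∀ z, z ∈ O → h • z ∈ O := by
    intro h hh hhb z hz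
    obtain ⟨m, hm, hmb, rfl⟩ := hOmem.1 hz
    exact hOmem.2 ⟨h * m, S.ker.mul_mem hh hm, by rw [mul_smul, hmb, hhb], by rw [mul_smul]⟩
  have hOcl : ∀ z ∈ O, z ∈ S.cl z₁ := by
    intro z hz
    obtain ⟨m, hm, -, rfl⟩ := hOmem.1 hz
    exact hm.2 z₁ hz₁
  have hcl1 : ∀ z ∈ S.cl z₁, z ≠ a ∧ z ∉ S.cl b := fun z hz => ⟨S.ne_of_mem z₁ hz₁ z hz, fun h => hz₁b (by
    have := S.eq_of_mem z₁ hz₁ z hz
    rw [S.eq_of_mem b hb z h] at this
    rw [this]
    exact S.self_mem z₁ hz₁)⟩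
  have hmove : ∀ z ∈ S.cl z₁, ∃ m ∈ S.ker, m • b = b ∧ m • z ≠ z := by
    intro z hz
    by_contra h
    simp only [not_exists, not_and, not_not] at h
    exact hcon b z hb (hcl1 z hz).1 (hcl1 z hz).2 h
  let D : Finset (ZMod p) := univ.filter fun t => φ t • z₁ ∈ O
  have hDO : ∀ t, t ∈ D ↔ φ t • z₁ ∈ O := fun t => by simp [D]
  have hDcard : D.card = O.card := by
    refine card_bij (fun t _ => φ t • z₁) (fun t ht => (hDO t).1 ht) (fun s _ t _ h => hφinj z₁ hz₁ s t h) fun z hz => ?_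
    obtain ⟨t, rfl⟩ := hφtr z₁ hz₁ z (hOcl z hz)
    exact ⟨t, (hDO t).2 hz, rfl⟩
  have hz₁O : z₁ ∈ O := hOmem.2 ⟨1, S.ker.one_mem, one_smul _ _, one_smul _ _⟩
  have hD2 : 2 ≤ D.card := by
    rw [hDcard]
    by_contra h
    obtain ⟨m, hm, hmb, hmz⟩ := hmove z₁ (S.self_mem z₁ hz₁)
    exact hmz ((card_le_one.1 (by omega)) _ (hOinv m hm hmb z₁ hz₁O) _ hz₁O)
  have hD2' : D.card + 2 ≤ p := by
    rw [hDcard]
    have hsub : O ⊆ S.cl z₁ := hOcl
    have hc : ((S.cl z₁) \ O).card = p - O.card := by rw [card_sdiff_of_subset hsub, S.card_cl z₁ hz₁]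
    have hle := card_le_card hsub
    rw [S.card_cl z₁ hz₁] at hle
    by_contra h
    have hz₂O : z₂ ∈ (S.cl z₁) \ O := by
      rw [mem_sdiff]
      refine ⟨hz₂, fun h' => ?_⟩
      obtain ⟨m, hm, hmb, hmz⟩ := hOmem.1 h'
      exact hsep m hm hmb hmz
    obtain ⟨m, hm, hmb, hmz⟩ := hmove z₂ hz₂
    refine hmz ((card_le_one.1 (by omega : ((S.cl z₁) \ O).card ≤ 1)) _ ?_ _ hz₂O)
    rw [mem_sdiff]
    refine ⟨S.ker_smul_mem hm hz₁ hz₂, fun h' => (mem_sdiff.1 hz₂O).2 ?_⟩
    have := hOinv m⁻¹ (S.ker.inv_mem hm) (inv_smul_eq_iff.2 hmb.symm) _ h'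
    rwa [inv_smul_smul] at this
  -- incidence
  have hincφ : ∀ s t, inc S b O (φ s • b) (φ t • z₁) = if t - s ∈ D then 1 else 0 := by
    intro s t
    have key : φ (t - s) • z₁ = (φ s)⁻¹ • φ t • z₁ := by
      rw [← mul_smul, ← hφneg, ← hφadd, sub_eq_neg_add]
    refine if_congr ?_ rfl rfl
    rw [hDO, key]
    constructor
    · rintro ⟨m, hm, hmb, hmO⟩
      have h1 : ((φ s)⁻¹ * m) • b = b := by rw [mul_smul, hmb, inv_smul_smul]
      have := hOinv _ (S.ker.mul_mem (S.ker.inv_mem (hφk s)) hm) h1 _ hmO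
      rwa [mul_smul, smul_inv_smul] at this
    · exact fun h => ⟨φ s, hφk s, rfl, h⟩
  have hinc_inv : ∀ h ∈ S.ker, ∀ x z, inc S b O (h • x) (h • z) = inc S b O x z := by
    intro h hh x z
    refine if_congr ?_ rfl rfl
    constructor
    · rintro ⟨m, hm, hmb, hmO⟩
      refine ⟨h⁻¹ * m, S.ker.mul_mem (S.ker.inv_mem hh) hm, by rw [mul_smul, hmb, inv_smul_smul], ?_⟩
      rwa [mul_inv_rev, inv_inv, mul_smul]
    · rintro ⟨m, hm, hmb, hmO⟩
      refine ⟨h * m, S.ker.mul_mem hh hm, by rw [mul_smul, hmb], ?_⟩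
      rwa [mul_inv_rev, mul_smul, inv_smul_smul]
  have hinc_supp : ∀ x z, inc S b O x z ≠ 0 → x ∈ S.cl b ∧ z ∈ S.cl z₁ := by
    intro x z h
    obtain ⟨m, hm, hmb, hmO⟩ := (ite_ne_right_iff.1 h).1
    refine ⟨hmb ▸ hm.2 b hb, ?_⟩
    have := S.ker_smul_mem hm hz₁ (hOcl _ hmO)
    rwa [smul_inv_smul] at this
  have hηk : ∀ n, (η ^ n) • a = a := fun n => T.fix _ (T.P.pow_mem hηP n)
  have hsupp : ∀ n z, walk S η b O n z ≠ 0 → z ∈ S.cl (η ^ n • b) := by
    intro n
    induction n with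
    | zero =>
      intro z hz
      have : z = b := by
        by_contra hne
        exact hz (if_neg hne)
      rw [this, pow_zero, one_smul]
      exact S.self_mem b hb
    | succ n ih =>
      intro z hz
      obtain ⟨x, -, hx⟩ := exists_ne_zero_of_sum_ne_zero hz
      have := S.mem_smul (hηk n) hz₁ (hinc_supp _ _ (right_ne_zero_of_mul hx)).2
      rwa [smul_inv_smul, ← hη, ← mul_smul, ← pow_succ] at this
  have hinvN : ∀ n, ∀ h ∈ S.ker, h • b = b → ∀ z, walk S η b O n (h • z) = walk S η b O n z := by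
    intro n
    induction n with
    | zero =>
      intro h hh hhb z
      refine if_congr ⟨fun e => ?_, fun e => by rw [e, hhb]⟩ rfl rfl
      exact smul_left_cancel h (e.trans hhb.symm)
    | succ n ih =>
      intro h hh hhb z
      show ∑ x, _ = ∑ x, _
      rw [← Equiv.sum_comp (MulAction.toPerm h)]
      refine sum_congr rfl fun x _ => ?_
      simp only [MulAction.toPerm_apply]
      have hc : (η ^ n)⁻¹ * h * η ^ n ∈ S.ker := by
        simpa using S.conj_mem_ker (inv_fix (hηk n)) hh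
      have e : ∀ w : Ω, (η ^ n)⁻¹ • h • w = ((η ^ n)⁻¹ * h * η ^ n) • (η ^ n)⁻¹ • w := fun w => by
        simp only [mul_smul, smul_inv_smul]
      rw [ih h hh hhb x, e x, e z, hinc_inv _ hc]
  -- the convolution powers
  let f : ℕ → ZMod p → ℕ := fun n t => walk S η b O n (φ t • η ^ n • b)
  have hcomm : ∀ (n : ℕ) t, (η ^ n)⁻¹ * φ t = φ t * (η ^ n)⁻¹ := fun n t =>
    (T.comm _ (T.P.inv_mem (T.P.pow_mem hηP n)) _ (hφP t))
  have hf0 : ∀ t, f 0 t = if t = 0 then 1 else 0 := by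
    intro t
    show (if φ t • η ^ 0 • b = b then 1 else 0) = _
    refine if_congr ?_ rfl rfl
    rw [pow_zero, one_smul]
    constructor
    · intro h; exact hφinj b hb t 0 (by rw [h, hφ0, one_smul])
    · rintro rfl; rw [hφ0, one_smul]
  have hf : ∀ n t, f (n + 1) t = ∑ d ∈ D, f n (t - d) := by
    intro n t
    have hyb : η ^ n • b ≠ a := smul_ne (hηk n) hb
    show ∑ x, _ = _
    rw [← sum_subset (subset_univ ((univ : Finset (ZMod p)).image fun s => φ s • η ^ n • b))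
      (fun x _ hx => by
        by_contra h0
        obtain ⟨s, hs⟩ := hφtr _ hyb x (hsupp n x (left_ne_zero_of_mul h0))
        exact hx (mem_image.2 ⟨s, mem_univ _, hs⟩)),
      sum_image fun s _ s' _ h => hφinj _ hyb s s' h]
    have hterm : ∀ s, walk S η b O n (φ s • η ^ n • b) *
        inc S b O ((η ^ n)⁻¹ • φ s • η ^ n • b) ((η ^ n)⁻¹ • φ t • η ^ (n + 1) • b) =
        if t - s ∈ D then f n s else 0 := fun s => by
      rw [← mul_smul _ (φ s), hcomm, mul_smul, inv_smul_smul, ← mul_smul _ (φ t), hcomm, mul_smul,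
        pow_succ, mul_smul, inv_smul_smul, hη, hincφ, mul_ite, mul_one, mul_zero]
    rw [sum_congr rfl fun s _ => hterm s, ← sum_filter]
    refine sum_nbij' (fun s => t - s) (fun d => t - d) (fun s hs => (mem_filter.1 hs).2)
      (fun d hd => mem_filter.2 ⟨mem_univ _, by rw [sub_sub_cancel]; exact hd⟩)
      (fun s _ => sub_sub_cancel t s) (fun d _ => sub_sub_cancel t d) (fun s _ => by rw [sub_sub_cancel])
  obtain ⟨e₀, he₀⟩ : ∃ e₀, φ e₀ = η ^ p := by
    have hηq : η ∉ S.ker := fun h => hz₁b (hη ▸ h.2 b hb)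
    by_cases hmem : η ^ p ∈ Subgroup.zpowers q
    · obtain ⟨i, hi, hiq⟩ := hall _ (T.P.pow_mem hηP p) ((Subgroup.zpowers_le.2 hqk) hmem)
      exact ⟨(i : ZMod p), by simp only [φ, ZMod.val_cast_of_lt hi, hiq]⟩
    · exfalso
      obtain ⟨i, j, hij⟩ := T.span H hqP (T.P.pow_mem hηP p) hqo hmem hηP
      have hpp : (η ^ p) ^ p = 1 := by
        rw [← pow_mul, ← pow_two]
        have := pow_card_eq_one' (x := (⟨η, hηP⟩ : T.P))
        rw [T.card] at this
        exact congrArg Subtype.val this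
      have h3 : η ^ p = 1 := by
        have hc : Commute (q ^ i) ((η ^ p) ^ j) := T.comm _ (T.P.zpow_mem hqP i) _ (T.P.zpow_mem (T.P.pow_mem hηP p) j)
        conv_lhs => rw [← hij]
        rw [hc.mul_pow, ← zpow_natCast (q ^ i), ← zpow_mul, mul_comm i, zpow_mul, zpow_natCast, hqp, one_zpow,
          one_mul, ← zpow_natCast ((η ^ p) ^ j), ← zpow_mul, mul_comm j, zpow_mul, zpow_natCast, hpp, one_zpow]
      exact hmem (h3 ▸ Subgroup.one_mem _)
  have hfp : ∀ t t', t ≠ -e₀ → t' ≠ -e₀ → f p t = f p t' := by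
    intro t t' ht ht'
    have hne : ∀ t, t ≠ -e₀ → φ t • η ^ p • b ∈ S.cl b ∧ φ t • η ^ p • b ≠ b := fun t ht => by
      rw [← he₀, ← mul_smul, ← hφadd]
      refine ⟨(hφk _).2 b hb, fun h => ht ?_⟩
      have := hφinj b hb _ 0 (by rw [h, hφ0, one_smul])
      exact eq_neg_of_add_eq_zero_left this
    obtain ⟨m, hm, hmb, hmz⟩ := h2 b hb _ (hne t ht).1 _ (hne t' ht').1 (hne t ht).2 (hne t' ht').2
    show walk S η b O p _ = walk S η b O p _
    rw [← hmz, hinvN p m hm hmb]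
  have hg : ∀ t t' : ZMod p, t ≠ 0 → t' ≠ 0 →
      (D.filter fun d => d - t ∈ D).card = (D.filter fun d => d - t' ∈ D).card := by
    have hcnt : ∀ t, (D.filter fun d => d - t ∈ D).card = (O.filter fun z => inc S b O (φ t • b) z = 1).card := by
      intro t
      have hd : ∀ d, (inc S b O (φ t • b) (φ d • z₁) = 1 ↔ d - t ∈ D) := fun d => by
        rw [hincφ]; split_ifs with h <;> simp [h]
      refine card_bij (fun d _ => φ d • z₁) (fun d hd' => ?_) (fun s _ s' _ h => hφinj z₁ hz₁ s s' h) fun z hz => ?_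
      · rw [mem_filter] at hd' ⊢
        exact ⟨(hDO d).1 hd'.1, (hd d).2 hd'.2⟩
      · rw [mem_filter] at hz
        obtain ⟨d, rfl⟩ := hφtr z₁ hz₁ z (hOcl z hz.1)
        exact ⟨d, mem_filter.2 ⟨(hDO d).2 hz.1, (hd d).1 hz.2⟩, rfl⟩
    intro t t' ht ht'
    have hne : ∀ t, t ≠ 0 → φ t • b ≠ b := fun t ht h => ht (hφinj b hb t 0 (by rw [h, hφ0, one_smul]))
    obtain ⟨m, hm, hmb, hmz⟩ := h2 b hb _ ((hφk t).2 b hb) _ ((hφk t').2 b hb) (hne t ht) (hne t' ht')
    have hmi : m⁻¹ • b = b := inv_smul_eq_iff.2 hmb.symm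
    rw [hcnt, hcnt, ← hmz]
    refine card_nbij' (fun z => m • z) (fun z => m⁻¹ • z) (fun z hz => ?_) (fun z hz => ?_)
      (fun z _ => inv_smul_smul m z) (fun z _ => smul_inv_smul m z)
    · simp only [coe_filter, Set.mem_ofPred_eq] at hz ⊢
      exact ⟨hOinv m hm hmb z hz.1, by rw [hinc_inv m hm]; exact hz.2⟩
    · simp only [coe_filter, Set.mem_ofPred_eq] at hz ⊢
      refine ⟨hOinv _ (S.ker.inv_mem hm) hmi z hz.1, ?_⟩
      rw [← hinc_inv m hm, smul_inv_smul]
      exact hz.2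
  exact no_difference_set H.odd D hD2 hD2' f hf0 hf (-e₀) hfp hg

/-- a transversal block system -/
theorem exists_second (H : Hyp G Ω p) (S : Sys G Ω a p) (T : Syl G Ω a p) (hM : ¬ Group.IsSolvable S.ker) :
    ∃ S' : Sys G Ω a p, ∀ y, y ≠ a → (∀ z, z ∈ S'.cl y ↔ z ≠ a ∧ ∀ m ∈ S.ker, m • y = y → m • z = z) ∧
      ∀ w, w ≠ a → ∃ z, z ∈ S'.cl y ∧ z ∈ S.cl w := by
  classical
  obtain ⟨hp5, h2⟩ := kernel_two_trans H S T hM
  obtain ⟨y₀, z₀, hy₀, hz₀, hne₀, heq₀⟩ := exists_equiv H S T hM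
  let cl : Ω → Finset Ω := fun y => univ.filter fun z => z ≠ a ∧ ∀ m ∈ S.ker, m • y = y → m • z = z
  have hmem : ∀ {y z : Ω}, z ∈ cl y ↔ z ≠ a ∧ ∀ m ∈ S.ker, m • y = y → m • z = z := fun {y z} => by simp [cl]
  have hrev : ∀ {y z : Ω}, y ≠ a → z ∈ cl y → S.kstab y = S.kstab z := fun {y z} hy hz =>
    kstab_eq H S T hy (hmem.1 hz).1 (hmem.1 hz).2
  have hofk : ∀ {y z : Ω}, z ≠ a → S.kstab y = S.kstab z → z ∈ cl y := fun {y z} hz e =>
    hmem.2 ⟨hz, fun m hm hmy => (e ▸ (⟨hm, hmy⟩ : m ∈ S.kstab y) : m ∈ S.kstab z).2⟩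
  have hself : ∀ y, y ≠ a → y ∈ cl y := fun y hy => hofk hy rfl
  have heq : ∀ y, y ≠ a → ∀ z ∈ cl y, cl z = cl y := by
    intro y hy z hz
    ext w
    constructor
    · exact fun hw => hofk (hmem.1 hw).1 ((hrev hy hz).trans (hrev (hmem.1 hz).1 hw))
    · exact fun hw => hofk (hmem.1 hw).1 ((hrev hy hz).symm.trans (hrev hy hw))
  have hmap : ∀ g : G, g • a = a → ∀ y z, z ∈ cl y → g • z ∈ cl (g • y) := by
    intro g hg y z hz
    refine hmem.2 ⟨smul_ne hg (hmem.1 hz).1, fun m hm hmy => ?_⟩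
    have h1 : g⁻¹ * m * g⁻¹⁻¹ ∈ S.ker := S.conj_mem_ker (inv_fix hg) hm
    rw [inv_inv] at h1
    have := (hmem.1 hz).2 _ h1 (by rw [mul_smul, mul_smul, hmy, inv_smul_smul])
    rw [mul_smul, mul_smul, inv_smul_eq_iff] at this
    exact this
  have hsmul : ∀ g : G, g • a = a → ∀ y, y ≠ a → cl (g • y) = (cl y).image (g • ·) := by
    intro g hg y _
    ext x
    rw [mem_image]
    constructor
    · intro hx
      refine ⟨g⁻¹ • x, ?_, smul_inv_smul g x⟩
      have := hmap g⁻¹ (inv_fix hg) _ _ hx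
      rwa [inv_smul_smul] at this
    · rintro ⟨z, hz, rfl⟩
      exact hmap g hg y z hz
  have hcb : ∀ y, y ≠ a → (cl y).card = (cl y₀).card := by
    intro y hy
    obtain ⟨z, hz, rfl⟩ := T.tran y₀ y hy₀ hy
    rw [hsmul z (T.fix z hz) y₀ hy₀, card_image_of_injective _ (MulAction.injective z)]
  have hinj : ∀ y, y ≠ a → ∀ u ∈ cl y, ∀ v ∈ cl y, S.cl u = S.cl v → u = v := by
    intro y hy u hu v hv huv
    have hua := (hmem.1 hu).1
    have e : S.kstab u = S.kstab v := (hrev hy hu).symm.trans (hrev hy hv)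
    by_contra hne
    have hvu : v ∈ S.cl u := huv ▸ S.self_mem v (hmem.1 hv).1
    obtain ⟨w, hw⟩ := card_pos.1 (show 0 < (((S.cl u).erase u).erase v).card by
      rw [card_erase_of_mem (mem_erase.2 ⟨Ne.symm hne, hvu⟩), card_erase_of_mem (S.self_mem u hua), S.card_cl u hua]
      omega)
    simp only [mem_erase] at hw
    obtain ⟨m, hm, hmu, hmv⟩ := h2 u hua v hvu w hw.2.2 (Ne.symm hne) hw.2.1
    have := (e ▸ (⟨hm, hmu⟩ : m ∈ S.kstab u) : m ∈ S.kstab v).2
    exact hw.1 (hmv.symm.trans this)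
  have hcls : ((univ.erase a).image S.cl).card = p := by
    have := S.card_cls H
    rwa [Nat.card_eq_fintype_card, Fintype.card_coe] at this
  have himg : ∀ y, y ≠ a → ((cl y).image S.cl).card = (cl y).card := fun y hy =>
    card_image_of_injOn fun u hu v hv h => hinj y hy u hu v hv h
  have hsubimg : ∀ y, (cl y).image S.cl ⊆ (univ.erase a).image S.cl := fun y =>
    image_subset_image fun z hz => mem_erase.2 ⟨(hmem.1 hz).1, mem_univ _⟩
  have hcard : (cl y₀).card = p := by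
    have hle : (cl y₀).card ≤ p := le_of_le_of_eq ((himg y₀ hy₀).ge.trans (card_le_card (hsubimg y₀))) hcls
    have h1 : 1 < (cl y₀).card :=
      one_lt_card.2 ⟨y₀, hself y₀ hy₀, z₀, hmem.2 ⟨hz₀, heq₀⟩, fun e => hne₀ (e ▸ S.self_mem y₀ hy₀)⟩
    have h := card_eq_sum_card_image cl (univ.erase a)
    rw [sum_const_nat (m := (cl y₀).card) (fun c hc => by
      obtain ⟨y, hy, rfl⟩ := mem_image.1 hc
      have hy' := (mem_erase.1 hy).1
      rw [← hcb y hy']
      refine congrArg Finset.card (Finset.ext fun z => ?_)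
      rw [mem_filter, mem_erase]
      exact ⟨fun ⟨⟨hz, _⟩, e⟩ => e ▸ hself z hz, fun hz => ⟨⟨(hmem.1 hz).1, mem_univ _⟩, heq y hy' z hz⟩⟩),
      card_erase_of_mem (mem_univ a), card_univ, H.card, Nat.add_sub_cancel] at h
    obtain ⟨i, hi, he⟩ := (Nat.dvd_prime_pow H.prime).1 (Dvd.intro_left _ h.symm)
    interval_cases i
    · rw [pow_zero] at he; omega
    · rw [he, pow_one]
    · rw [he] at hle
      have := H.prime.two_le
      nlinarith
  let S' : Sys G Ω a p :=
    { cl := cl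
      self_mem := hself
      ne_of_mem := fun y _ z hz => (hmem.1 hz).1
      eq_of_mem := heq
      smul_cl := hsmul
      card_cl := fun y hy => (hcb y hy).trans hcard }
  refine ⟨S', fun y hy => ⟨fun z => hmem, fun w hw => ?_⟩⟩
  have heqimg : (cl y).image S.cl = (univ.erase a).image S.cl :=
    eq_of_subset_of_card_le (hsubimg y) (by rw [hcls, himg y hy, hcb y hy, hcard])
  obtain ⟨z, hz, hzw⟩ := mem_image.1 (heqimg.symm ▸ mem_image_of_mem S.cl (mem_erase.2 ⟨hw, mem_univ _⟩))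
  exact ⟨z, hz, hzw ▸ S.self_mem z (hmem.1 hz).1⟩

end Cfsg.Agent.DoublyPrim
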