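/-
Two transversal block systems give a design, which does not exist.
-/
import Cfsg.Agent.Lib.DoublyPrim.Kernel

set_option autoImplicit false
set_option linter.style.haveILetI false
set_option linter.unusedSectionVars false

namespace Cfsg.Agent.DoublyPrim

open Finset MulAction

variable {G Ω : Type*} [Group G] [Finite G] [Fintype Ω] [DecidableEq Ω] [MulAction G Ω] [FaithfulSMul G Ω]
  {p : ℕ} {a b : Ω}

/-- translates of lines attached to block systems -/
theorem lines_design (H : Hyp G Ω p) (hb : b ≠ a) {l : ℕ} (Ss : Fin l → Sys G Ω a p) {w : G}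
    (hwa : w • a = b)
    (hperm : ∀ i, ∃ j, (insert a ((Ss i).cl b)).image (w • ·) = insert a ((Ss j).cl b))
    (hdist : Function.Injective fun i => insert a ((Ss i).cl b)) : l ≠ 1 ∧ (l = 2 → p = 3) := by
  classical
  haveI : Fintype G := Fintype.ofFinite G
  let L : Fin l → Finset Ω := fun i => insert a ((Ss i).cl b)
  let 𝓛 : Finset (Finset Ω) := (univ : Finset (G × Fin l)).image fun gi => (L gi.2).image (gi.1 • ·)
  have hLcard : ∀ i, (L i).card = p + 1 := fun i => by
    show (insert a ((Ss i).cl b)).card = p + 1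
    rw [card_insert_of_notMem fun h => (Ss i).ne_of_mem b hb a h rfl, (Ss i).card_cl b hb]
  choose σ hσ using hperm
  have hσinj : Function.Injective σ := by
    intro i j h
    refine hdist (image_injective (MulAction.injective w) ?_)
    simp only [hσ, h]
  have hk : ∀ M ∈ 𝓛, M.card = p + 1 := by
    intro M hM
    obtain ⟨⟨g, i⟩, -, rfl⟩ := mem_image.1 hM
    rw [card_image_of_injective _ (MulAction.injective g), hLcard]
  have hinv : ∀ g : G, ∀ M ∈ 𝓛, M.image (g • ·) ∈ 𝓛 := by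
    intro g M hM
    obtain ⟨⟨g', i⟩, -, rfl⟩ := mem_image.1 hM
    refine mem_image.2 ⟨(g * g', i), mem_univ _, ?_⟩
    rw [image_image]
    exact image_congr fun z _ => mul_smul g g' z
  have hfix : ∀ k : G, k • a = a → ∀ i, (L i).image (k • ·) = insert a ((Ss i).cl (k • b)) := fun k hk i => by
    show (insert a ((Ss i).cl b)).image (k • ·) = _
    rw [image_insert, hk, ← (Ss i).smul_cl k hk b hb]
  have hthrough : ∀ (g : G) (i : Fin l), a ∈ (L i).image (g • ·) →
      ∃ (k : G) (j : Fin l), k • a = a ∧ (L i).image (g • ·) = (L j).image (k • ·) := by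
    intro g i ha
    obtain ⟨c, hc, hca⟩ := mem_image.1 ha
    rcases mem_insert.1 hc with rfl | hc'
    · exact ⟨g, i, hca, rfl⟩
    · have hcne := (Ss i).ne_of_mem b hb c hc'
      obtain ⟨h, hha, hhb⟩ := H.trans a b a c hb.symm (Ne.symm hcne)
      obtain ⟨j, rfl⟩ := (Finite.injective_iff_surjective.1 hσinj) i
      refine ⟨g * h * w, j, by rw [mul_smul, mul_smul, hwa, hhb, hca], ?_⟩
      have e1 : (L (σ j)).image (h • ·) = L (σ j) := by
        rw [hfix h hha, hhb, (Ss (σ j)).eq_of_mem b hb c hc']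
      conv_lhs => rw [← e1, show L (σ j) = (L j).image (w • ·) from (hσ j).symm]
      rw [image_image, image_image]
      exact image_congr fun z _ => by simp [mul_smul]
  have hab : (𝓛.filter fun M => a ∈ M ∧ b ∈ M) = univ.image L := by
    ext M
    rw [mem_filter]
    constructor
    · rintro ⟨hM, ha, hb'⟩
      obtain ⟨⟨g, i⟩, -, rfl⟩ := mem_image.1 hM
      obtain ⟨k, j, hk, he⟩ := hthrough g i ha
      refine mem_image.2 ⟨j, mem_univ _, ?_⟩
      rw [he, hfix k hk] at hb' ⊢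
      have hmem := (mem_insert.1 hb').resolve_left hb
      show insert a ((Ss j).cl b) = _
      rw [(Ss j).eq_of_mem (k • b) (smul_ne hk hb) b hmem]
    · intro hM
      obtain ⟨i, -, rfl⟩ := mem_image.1 hM
      refine ⟨mem_image.2 ⟨(1, i), mem_univ _, ?_⟩, mem_insert_self _ _, mem_insert_of_mem ((Ss i).self_mem b hb)⟩
      simp
  refine design p H.prime H.odd H.card 𝓛 (lam := l) hk fun x y hxy => ?_
  rw [lam_of_invariant (G := G) H.trans 𝓛 hinv hb.symm x y hxy, hab, card_image_of_injective _ hdist,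
    card_univ, Fintype.card_fin]

/-- a non-solvable kernel is impossible -/
theorem kernel_case (H : Hyp G Ω p) (S : Sys G Ω a p) (T : Syl G Ω a p) (hM : ¬ Group.IsSolvable S.ker) :
    False := by
  classical
  obtain ⟨b, hb⟩ : ∃ b : Ω, b ≠ a :=
    (univ.exists_mem_ne (by rw [card_univ, H.card]; have := Nat.one_lt_pow (n := 2) (by norm_num) H.prime.one_lt; omega) a).imp
      fun b h => h.2
  obtain ⟨hp5, h2⟩ := kernel_two_trans H S T hM
  obtain ⟨S', hS'⟩ := exists_second H S T hM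
  have hmem' : ∀ y, y ≠ a → ∀ z, z ∈ S'.cl y ↔ z ≠ a ∧ ∀ m ∈ S.ker, m • y = y → m • z = z := fun y hy => (hS' y hy).1
  have hmeet : ∀ y, y ≠ a → ∀ z ∈ S.cl y, z ∈ S'.cl y → z = y := by
    intro y hy z hz hz'
    by_contra hne
    obtain ⟨w, hw⟩ := card_pos.1 (show 0 < (((S.cl y).erase y).erase z).card by
      rw [card_erase_of_mem (mem_erase.2 ⟨hne, hz⟩), card_erase_of_mem (S.self_mem y hy), S.card_cl y hy]
      omega)
    simp only [mem_erase] at hw
    obtain ⟨m, hm, hmy, hmz⟩ := h2 y hy z hz w hw.2.2 hne hw.2.1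
    exact hw.1 (hmz.symm.trans (((hmem' y hy z).1 hz').2 m hm hmy))
  set B := S.cl b with hB
  set B' := S'.cl b with hB'
  set K := twoStab G a b with hK
  let O : Ω → Finset Ω := fun y => univ.filter fun z => ∃ k ∈ K, k • y = z
  have hO : ∀ {y z : Ω}, z ∈ O y ↔ ∃ k ∈ K, k • y = z := fun {y z} => by simp [O]
  have hkB : ∀ k ∈ K, ∀ z ∈ B, k • z ∈ B := fun k hk z hz => by
    have := S.mem_smul hk.1 hb hz
    rwa [(mem_twoStab.1 hk).2] at this
  have hkB' : ∀ k ∈ K, ∀ z ∈ B', k • z ∈ B' := fun k hk z hz => by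
    have := S'.mem_smul hk.1 hb hz
    rwa [(mem_twoStab.1 hk).2] at this
  have hkb : ∀ k ∈ K, ∀ z, z ≠ b → k • z ≠ b := fun k hk z hz h => hz (smul_left_cancel k (h.trans (mem_twoStab.1 hk).2.symm))
  have hMK : ∀ m ∈ S.ker, m • b = b → m ∈ K := fun m hm hmb => ⟨hm.1, hmb⟩
  have hOB : ∀ y ∈ B.erase b, O y = B.erase b := by
    intro y hy
    rw [mem_erase] at hy
    ext z
    rw [hO, mem_erase]
    constructor
    · rintro ⟨k, hk, rfl⟩; exact ⟨hkb k hk y hy.1, hkB k hk y hy.2⟩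
    · intro hz
      obtain ⟨m, hm, hmb, hmz⟩ := h2 b hb y hy.2 z hz.2 hy.1 hz.1
      exact ⟨m, hMK m hm hmb, hmz⟩
  have hOB' : ∀ y ∈ B'.erase b, O y ⊆ B'.erase b := by
    intro y hy z hz
    rw [mem_erase] at hy ⊢
    obtain ⟨k, hk, rfl⟩ := hO.1 hz
    exact ⟨hkb k hk y hy.1, hkB' k hk y hy.2⟩
  have hoff : ∀ y, y ≠ a → y ∉ B → y ∉ B' → ∃ z₀ ∈ B'.erase b, z₀ ∈ S.cl y ∧ (S.cl y).erase z₀ ⊆ O y := by
    intro y hy hyB hyB'
    obtain ⟨z₀, hz₀', hz₀⟩ := (hS' b hb).2 y hy
    have hz₀b : z₀ ≠ b := fun h => hyB (by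
      have := S.eq_of_mem y hy z₀ hz₀
      rw [h] at this
      rw [hB, this]
      exact S.self_mem y hy)
    refine ⟨z₀, mem_erase.2 ⟨hz₀b, hz₀'⟩, hz₀, fun z hz => ?_⟩
    rw [mem_erase] at hz
    have hz₀a := S.ne_of_mem y hy z₀ hz₀
    have hcl := S.eq_of_mem y hy z₀ hz₀
    obtain ⟨m, hm, hmz₀, hmy⟩ := h2 z₀ hz₀a y (hcl.symm ▸ S.self_mem y hy) z (hcl.symm ▸ hz.2)
      (fun e => hyB' (e ▸ hz₀')) hz.1
    refine hO.2 ⟨m, hMK m hm ?_, hmy⟩
    have hbz : b ∈ S'.cl z₀ := by
      rw [S'.eq_of_mem b hb z₀ hz₀']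
      exact S'.self_mem b hb
    exact ((hmem' z₀ hz₀a b).1 hbz).2 m hm hmz₀
  have hcB : (B.erase b).card = p - 1 := by rw [card_erase_of_mem (S.self_mem b hb), S.card_cl b hb]
  have hcB' : (B'.erase b).card = p - 1 := by rw [card_erase_of_mem (S'.self_mem b hb), S'.card_cl b hb]
  have hoff' : ∀ y, y ≠ a → y ∉ B → y ∉ B' → p - 1 ≤ (O y).card := by
    intro y hy h1 h2'
    obtain ⟨z₀, -, hz₀, hsub⟩ := hoff y hy h1 h2'
    have := card_le_card hsub
    rwa [card_erase_of_mem hz₀, S.card_cl y hy] at this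
  obtain ⟨w, hwa, hwb⟩ := H.trans a b b a hb.symm hb
  have hwK : ∀ k ∈ K, w * k * w⁻¹ ∈ K := by
    intro k hk
    obtain ⟨hka, hkb'⟩ := mem_twoStab.1 hk
    refine mem_twoStab.2 ⟨?_, ?_⟩
    · rw [mul_smul, mul_smul, inv_smul_eq_iff.2 hwb.symm, hkb', hwb]
    · rw [mul_smul, mul_smul, inv_smul_eq_iff.2 hwa.symm, hka, hwa]
  have hwK' : ∀ k ∈ K, w⁻¹ * k * w ∈ K := by
    intro k hk
    obtain ⟨hka, hkb'⟩ := mem_twoStab.1 hk
    refine mem_twoStab.2 ⟨?_, ?_⟩
    · rw [mul_smul, mul_smul, hwa, hkb', inv_smul_eq_iff.2 hwa.symm]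
    · rw [mul_smul, mul_smul, hwb, hka, inv_smul_eq_iff.2 hwb.symm]
  have hwO : ∀ y, O (w • y) = (O y).image (w • ·) := by
    intro y
    ext z
    rw [hO, mem_image]
    constructor
    · rintro ⟨k, hk, rfl⟩
      exact ⟨(w⁻¹ * k * w) • y, hO.2 ⟨_, hwK' k hk, rfl⟩, by simp [mul_smul]⟩
    · rintro ⟨_, hz, rfl⟩
      obtain ⟨k, hk, rfl⟩ := hO.1 hz
      exact ⟨_, hwK k hk, by simp [mul_smul]⟩
  have hwne : ∀ y, y ≠ a → y ≠ b → w • y ≠ a ∧ w • y ≠ b := fun y h1 h2' =>
    ⟨fun h => h2' (smul_left_cancel w (h.trans hwb.symm)), fun h => h1 (smul_left_cancel w (h.trans hwa.symm))⟩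
  have hwOc : ∀ y, (O (w • y)).card = (O y).card := fun y => by
    rw [hwO, card_image_of_injective _ (MulAction.injective w)]
  have hsplit : ∀ (S₀ : Sys G Ω a p) (C : Finset Ω), C = S₀.cl b →
      insert a C = insert a (insert b (C.erase b)) := fun S₀ C hC => by
    rw [insert_erase (hC ▸ S₀.self_mem b hb)]
  by_cases hT : ∀ z ∈ B'.erase b, ∀ z' ∈ B'.erase b, ∃ k ∈ K, k • z = z'
  · -- both lines
    have hbig : ∀ y, y ≠ a → y ∉ B → y ∉ B' → p - 1 < (O y).card := by
      intro y hy h1 h2'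
      obtain ⟨z₀, hz₀B', hz₀, hsub⟩ := hoff y hy h1 h2'
      obtain ⟨z₁, hz₁B', hz₁ne⟩ := (B'.erase b).exists_mem_ne (by omega) z₀
      obtain ⟨k, hk, hkz⟩ := hT z₀ hz₀B' z₁ hz₁B'
      have hky : k • y ∈ O y := hO.2 ⟨k, hk, rfl⟩
      have hky1 : k • y ∈ S.cl z₁ := by
        rw [← hkz]
        have := S.mem_smul (g := k) hk.1 (S.ne_of_mem y hy z₀ hz₀) (show y ∈ S.cl z₀ by
          rw [S.eq_of_mem y hy z₀ hz₀]; exact S.self_mem y hy)
        exact this
      have hnot : k • y ∉ S.cl y := fun h => hz₁ne (by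
        have hza := S'.ne_of_mem b hb z₁ (mem_erase.1 hz₁B').2
        have e : S.cl z₁ = S.cl z₀ := by
          rw [← S.eq_of_mem z₁ hza _ hky1, S.eq_of_mem y hy _ h, S.eq_of_mem y hy z₀ hz₀]
        refine hmeet z₀ (S.ne_of_mem y hy z₀ hz₀) z₁ (e ▸ S.self_mem z₁ hza) ?_
        rw [S'.eq_of_mem b hb z₀ (mem_erase.1 hz₀B').2]
        exact (mem_erase.1 hz₁B').2)
      have hsub' : insert (k • y) ((S.cl y).erase z₀) ⊆ O y := insert_subset hky hsub
      have := card_le_card hsub'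
      rw [card_insert_of_notMem fun h => hnot (mem_erase.1 h).2, card_erase_of_mem hz₀, S.card_cl y hy] at this
      omega
    have hOB'eq : ∀ y ∈ B'.erase b, O y = B'.erase b := fun y hy =>
      Subset.antisymm (hOB' y hy) fun z hz => hO.2 (hT y hy z hz)
    have horb : ∀ y, y ≠ a → y ≠ b → (O y).card = p - 1 → O y = B.erase b ∨ O y = B'.erase b := by
      intro y hya hyb hc
      by_cases h1 : y ∈ B
      · exact Or.inl (hOB y (mem_erase.2 ⟨hyb, h1⟩))
      by_cases h2' : y ∈ B'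
      · exact Or.inr (hOB'eq y (mem_erase.2 ⟨hyb, h2'⟩))
      exact absurd hc (Nat.ne_of_gt (hbig y hya h1 h2'))
    let Ss : Fin 2 → Sys G Ω a p := ![S, S']
    have hline : ∀ i, ∃ y, y ≠ a ∧ y ≠ b ∧ (O y).card = p - 1 ∧
        insert a ((Ss i).cl b) = insert a (insert b (O y)) := by
      intro i
      fin_cases i
      · obtain ⟨y, hy⟩ := card_pos.1 (show 0 < (B.erase b).card by omega)
        refine ⟨y, S.ne_of_mem b hb y (mem_erase.1 hy).2, (mem_erase.1 hy).1, by rw [hOB y hy, hcB], ?_⟩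
        rw [hOB y hy]
        exact hsplit S B rfl
      · obtain ⟨y, hy⟩ := card_pos.1 (show 0 < (B'.erase b).card by omega)
        refine ⟨y, S'.ne_of_mem b hb y (mem_erase.1 hy).2, (mem_erase.1 hy).1, by rw [hOB'eq y hy, hcB'], ?_⟩
        rw [hOB'eq y hy]
        exact hsplit S' B' rfl
    have h := lines_design H hb Ss hwa (fun i => by
      obtain ⟨y, hya, hyb, hc, he⟩ := hline i
      rw [he, image_insert, image_insert, ← hwO, hwa, hwb, insert_comm]
      rcases horb _ (hwne y hya hyb).1 (hwne y hya hyb).2 ((hwOc y).trans hc) with e | e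
      · exact ⟨0, by rw [e, ← hsplit S B rfl]; rfl⟩
      · exact ⟨1, by rw [e, ← hsplit S' B' rfl]; rfl⟩) (by
      intro i j hij
      have hne : insert a B ≠ insert a B' := fun e => by
        obtain ⟨z, hz⟩ := card_pos.1 (show 0 < (B.erase b).card by omega)
        have : z ∈ insert a B' := e ▸ mem_insert_of_mem (mem_erase.1 hz).2
        have hz' := (mem_insert.1 this).resolve_left (S.ne_of_mem b hb z (mem_erase.1 hz).2)
        exact (mem_erase.1 hz).1 (hmeet b hb z (mem_erase.1 hz).2 hz')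
      fin_cases i <;> fin_cases j
      · rfl
      · exact absurd hij hne
      · exact absurd hij.symm hne
      · rfl)
    have := h.2 rfl
    omega
  · -- the second line alone
    have hsmall : ∀ y, y ≠ a → y ≠ b → ((O y).card < p - 1 ↔ y ∈ B') := by
      intro y hya hyb
      constructor
      · intro hc
        by_contra h2'
        by_cases h1 : y ∈ B
        · rw [hOB y (mem_erase.2 ⟨hyb, h1⟩), hcB] at hc
          omega
        · exact absurd hc (not_lt.2 (hoff' y hya h1 h2'))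
      · intro h2'
        have hy := mem_erase.2 ⟨hyb, h2'⟩
        by_contra hc
        have hfull : O y = B'.erase b := eq_of_subset_of_card_le (hOB' y hy) (by rw [hcB']; omega)
        refine hT fun z hz z' hz' => ?_
        rw [← hfull, hO] at hz hz'
        obtain ⟨k, hk, rfl⟩ := hz
        obtain ⟨k', hk', rfl⟩ := hz'
        exact ⟨k' * k⁻¹, K.mul_mem hk' (K.inv_mem hk), by rw [mul_smul, inv_smul_smul]⟩
    have h := lines_design H hb (fun _ : Fin 1 => S') hwa (fun _ => ⟨0, by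
      refine eq_of_subset_of_card_le (fun z hz => ?_) ?_
      · obtain ⟨y, hy, rfl⟩ := mem_image.1 hz
        rcases mem_insert.1 hy with rfl | hy
        · rw [hwa]; exact mem_insert_of_mem (S'.self_mem b hb)
        by_cases hyb : y = b
        · rw [hyb, hwb]; exact mem_insert_self _ _
        have hya := S'.ne_of_mem b hb y hy
        refine mem_insert_of_mem ((hsmall _ (hwne y hya hyb).1 (hwne y hya hyb).2).1 ?_)
        rw [hwOc]
        exact (hsmall y hya hyb).2 hy
      · rw [card_image_of_injective _ (MulAction.injective w)]⟩) (Function.injective_of_subsingleton _)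
    exact h.1 rfl

end Cfsg.Agent.DoublyPrim
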