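/-
Parity and regular normal subgroups in degree `p ^ 2 + 1`.
-/
import Cfsg.Agent.Lib.DoublyPrim.Setup
import Cfsg.Agent.S0054

set_option autoImplicit false
set_option linter.style.haveILetI false
set_option linter.unusedSectionVars false

namespace Cfsg.Agent.DoublyPrim

open Finset MulAction Equiv.Perm

theorem sign_involution {α : Type*} [Fintype α] [DecidableEq α] (σ : Equiv.Perm α) (h : σ ^ 2 = 1) :
    σ.support.card % 2 = 0 ∧ Equiv.Perm.sign σ = (-1) ^ (σ.support.card / 2) := by
  have hall : ∀ n ∈ σ.cycleType, n = 2 := fun n hn => by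
    have h2 := Equiv.Perm.two_le_of_mem_cycleType hn
    have h3 := Nat.le_of_dvd (by norm_num) ((Equiv.Perm.dvd_of_mem_cycleType hn).trans (orderOf_dvd_of_pow_eq_one h))
    omega
  have hrep : σ.cycleType = Multiset.replicate σ.cycleType.card 2 := Multiset.eq_replicate_card.2 hall
  have hsum : σ.support.card = σ.cycleType.card * 2 := by
    rw [← Equiv.Perm.sum_cycleType]
    conv_lhs => rw [hrep]
    rw [Multiset.sum_replicate, smul_eq_mul]
  refine ⟨by omega, ?_⟩
  rw [Equiv.Perm.sign_of_cycleType, Equiv.Perm.sum_cycleType, hsum, Nat.mul_div_cancel _ two_pos, pow_add,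
    mul_comm σ.cycleType.card 2, pow_mul, neg_one_sq, one_pow, one_mul]

/-- a group of order twice an odd number has an odd normal subgroup of index two -/
theorem exists_odd_index_two {G : Type*} [Group G] [Finite G] (h2 : Nat.card G % 4 = 2) :
    ∃ N : Subgroup G, N.Normal ∧ Nat.card N * 2 = Nat.card G ∧ ¬ 2 ∣ Nat.card N := by
  classical
  haveI : Fintype G := Fintype.ofFinite G
  haveI : Fact (Nat.Prime 2) := ⟨Nat.prime_two⟩
  obtain ⟨t, ht⟩ := exists_prime_orderOf_dvd_card' (G := G) 2 (by omega)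
  have ht1 : t ≠ 1 := fun h => by rw [h, orderOf_one] at ht; omega
  let ε : G →* ℤˣ := Equiv.Perm.sign.comp (MulAction.toPermHom G G)
  have ht2 : (MulAction.toPermHom G G t) ^ 2 = 1 := by
    rw [← map_pow, ← ht, pow_orderOf_eq_one, map_one]
  have hsupp : (MulAction.toPermHom G G t).support = univ := eq_univ_of_forall fun x =>
    Equiv.Perm.mem_support.2 fun h => ht1 (mul_eq_right.1 (show t * x = x from h))
  have hεt : ε t = -1 := by
    show Equiv.Perm.sign (MulAction.toPermHom G G t) = -1
    rw [(sign_involution _ ht2).2, hsupp, card_univ, ← Nat.card_eq_fintype_card]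
    exact Odd.neg_one_pow (Nat.odd_iff.2 (by omega))
  have hidx : ε.ker.index = 2 := by
    rw [Subgroup.index_ker]
    have hr : ε.range = ⊤ := by
      rw [eq_top_iff]
      intro u _
      rcases Int.units_eq_one_or u with rfl | rfl
      · exact one_mem _
      · exact ⟨t, hεt⟩
    rw [hr, Subgroup.card_top]
    simp
  have hc := ε.ker.card_mul_index
  rw [hidx] at hc
  exact ⟨ε.ker, inferInstance, hc, by omega⟩

variable {G Ω : Type*} [Group G] [Finite G] [Fintype Ω] [MulAction G Ω] {p : ℕ}

theorem no_regular (hp : p.Prime) (hp2 : p ≠ 2) (hcard : Fintype.card Ω = p ^ 2 + 1)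
    (h2 : IsMultiplyPretransitive G Ω 2) (N : Subgroup G) (hN : N.Normal) (htr : IsPretransitive N Ω) :
    ∃ x : Ω, MulAction.stabilizer N x ≠ ⊥ := by
  by_contra h
  simp only [not_exists, not_not] at h
  haveI := hN
  haveI := htr
  haveI : Nonempty Ω := Fintype.card_pos_iff.1 (by omega)
  obtain ⟨-, l, hl, hpow⟩ := Cfsg.Agent.S0054.result h2 N htr h
  obtain ⟨x⟩ : Nonempty Ω := inferInstance
  have hNc : Nat.card N = p ^ 2 + 1 := by
    rw [← hcard, ← Nat.card_eq_fintype_card, ← index_stabilizer_of_transitive N x, h x, Subgroup.index_bot]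
  have hodd : p % 2 = 1 := Nat.odd_iff.1 (hp.odd_of_ne_two hp2)
  have hsq : p ^ 2 % 4 = 1 := by
    rw [Nat.pow_mod]
    have : p % 4 = 1 ∨ p % 4 = 3 := by omega
    rcases this with h | h <;> rw [h]
  have hpg : IsPGroup l N := fun n => ⟨1, Subtype.ext (by rw [Subgroup.coe_pow, pow_one]; exact hpow n n.2)⟩
  haveI := Fact.mk hl
  obtain ⟨i, hi⟩ := IsPGroup.iff_card.1 hpg
  rw [hNc] at hi
  have h2l : 2 ∣ l ^ i := by rw [← hi]; omega
  obtain rfl : 2 = l := (Nat.prime_dvd_prime_iff_eq Nat.prime_two hl).1 (Nat.prime_two.dvd_of_dvd_pow h2l)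
  have := hp.two_le
  have : 4 ≤ p ^ 2 := by nlinarith
  rcases i with _ | _ | i
  · omega
  · omega
  · have : 2 ^ (i + 2) = 4 * 2 ^ i := by ring
    omega

variable [FaithfulSMul G Ω] [DecidableEq Ω]

/-- the order of the group is not twice an odd number -/
theorem card_mod_four (hp : p.Prime) (hp2 : p ≠ 2) (hcard : Fintype.card Ω = p ^ 2 + 1)
    (h2 : IsMultiplyPretransitive G Ω 2) : Nat.card G % 4 ≠ 2 := by
  intro h
  have hodd : p % 2 = 1 := Nat.odd_iff.1 (hp.odd_of_ne_two hp2)
  have hv : 2 ∣ p ^ 2 + 1 := by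
    have : p ^ 2 % 2 = 1 := by rw [Nat.pow_mod, hodd]
    omega
  obtain ⟨N, hN, hNc, hN2⟩ := exists_odd_index_two h
  haveI := hN
  haveI : IsPreprimitive G Ω := isPreprimitive_of_is_two_pretransitive h2
  have hne : fixedPoints N Ω ≠ Set.univ := by
    intro hu
    have : N = ⊥ := (Subgroup.eq_bot_iff_forall N).2 fun n hn => eq_one_of_forall (Ω := Ω) fun z =>
      (hu.symm ▸ Set.mem_univ z : z ∈ fixedPoints N Ω) ⟨n, hn⟩
    rw [this, Subgroup.card_bot] at hNc
    haveI := Fintype.ofFinite G
    have hle : Fintype.card Ω ≤ Nat.card G := by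
      haveI : Nonempty Ω := Fintype.card_pos_iff.1 (by omega)
      obtain ⟨x⟩ : Nonempty Ω := inferInstance
      haveI : IsPretransitive G Ω := inferInstance
      rw [Nat.card_eq_fintype_card]
      exact Fintype.card_le_of_surjective (fun g : G => g • x) (fun y => exists_smul_eq G x y)
    have := hp.two_le
    rw [hcard] at hle
    have : 4 ≤ p ^ 2 := by nlinarith
    omega
  haveI : IsPretransitive N Ω := IsQuasiPreprimitive.isPretransitive_of_normal hne
  haveI : Nonempty Ω := Fintype.card_pos_iff.1 (by omega)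
  obtain ⟨x⟩ : Nonempty Ω := inferInstance
  apply hN2
  refine hv.trans ?_
  rw [← hcard, ← Nat.card_eq_fintype_card, ← index_stabilizer_of_transitive N x]
  exact Subgroup.index_dvd_card _

end Cfsg.Agent.DoublyPrim
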