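/-
The case of a normal Sylow subgroup of the stabiliser.
-/
import Cfsg.Agent.Lib.DoublyPrim.Reduce
import Cfsg.Agent.Lib.DoublyPrim.Parity
import Cfsg.Agent.S0741

set_option autoImplicit false
set_option linter.style.haveILetI false
set_option linter.unusedSectionVars false

namespace Cfsg.Agent.DoublyPrim

open Finset MulAction

variable {G Ω : Type*} [Group G] [Finite G] [Fintype Ω] [DecidableEq Ω] [MulAction G Ω] [FaithfulSMul G Ω]
  {p : ℕ} {a b : Ω}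

theorem conj_gen {k : G} {u : G} {i j : ℤ} (h : k * u * k⁻¹ = u ^ i) : k * u ^ j * k⁻¹ = u ^ (i * j) := by
  rw [← conj_zpow, h, ← zpow_mul]

theorem twoStab_conj (T : Syl G Ω a p) (hT : T.IsNormalIn) {k : G} (hk : k ∈ twoStab G a b) {z : G}
    (hz : z ∈ T.P) : k * z * k⁻¹ ∈ T.P ∧ k • z • b = (k * z * k⁻¹) • b := by
  refine ⟨hT k hk.1 z hz, ?_⟩
  rw [mul_smul, mul_smul, inv_smul_eq_iff.2 (mem_twoStab.1 hk).2.symm]

theorem fix_iff (T : Syl G Ω a p) (hT : T.IsNormalIn) (hb : b ≠ a) {k : G} (hk : k ∈ twoStab G a b) {z : G}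
    (hz : z ∈ T.P) : k • z • b = z • b ↔ k * z * k⁻¹ = z := by
  obtain ⟨h1, h2⟩ := twoStab_conj T hT hk hz
  rw [h2]
  refine ⟨fun h => ?_, fun h => by rw [h]⟩
  have := T.free _ (T.P.mul_mem (T.P.inv_mem hz) h1) b hb (by rw [mul_smul, h, inv_smul_smul])
  exact (inv_mul_eq_one.1 this).symm

/-- the centraliser in `P` -/
def Syl.U (T : Syl G Ω a p) (k : G) : Subgroup G := T.P ⊓ Subgroup.centralizer {k}

theorem Syl.mem_U (T : Syl G Ω a p) {k z : G} : z ∈ T.U k ↔ z ∈ T.P ∧ k * z * k⁻¹ = z := by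
  rw [Syl.U, Subgroup.mem_inf, Subgroup.mem_centralizer_singleton_iff, mul_inv_eq_iff_eq_mul]
  exact ⟨fun ⟨h1, h2⟩ => ⟨h1, h2.symm⟩, fun ⟨h1, h2⟩ => ⟨h1, h2.symm⟩⟩

open scoped Classical in
/-- the fixed points -/
noncomputable def fixSet (G : Type*) {Ω : Type*} [Group G] [Fintype Ω] [MulAction G Ω] (g : G) : Finset Ω :=
  univ.filter fun z => g • z = z

theorem mem_fixSet {g : G} {z : Ω} : z ∈ fixSet G g ↔ g • z = z := by simp [fixSet]

theorem fixSet_conj (g k : G) : fixSet G (g * k * g⁻¹) = (fixSet G k : Finset Ω).image (g • ·) := by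
  ext z
  rw [mem_fixSet, mem_image]
  constructor
  · intro h
    refine ⟨g⁻¹ • z, mem_fixSet.2 ?_, smul_inv_smul g z⟩
    rw [mul_smul, mul_smul] at h
    rw [← inv_smul_smul g (k • g⁻¹ • z), h]
  · rintro ⟨w, hw, rfl⟩
    rw [mul_smul, mul_smul, inv_smul_smul, mem_fixSet.1 hw]

theorem fixSet_eq (T : Syl G Ω a p) (hT : T.IsNormalIn) (hb : b ≠ a) {k : G} (hk : k ∈ twoStab G a b) :
    (∀ y, y ∈ fixSet G k ↔ y = a ∨ ∃ z ∈ T.U k, z • b = y) ∧
      (fixSet G k : Finset Ω).card = Nat.card (T.U k) + 1 := by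
  classical
  have hmem : ∀ y, y ∈ fixSet G k ↔ y = a ∨ ∃ z ∈ T.U k, z • b = y := by
    intro y
    rw [mem_fixSet]
    constructor
    · intro h
      rcases eq_or_ne y a with rfl | hy
      · exact Or.inl rfl
      obtain ⟨z, hz, rfl⟩ := T.tran b y hb hy
      exact Or.inr ⟨z, T.mem_U.2 ⟨hz, (fix_iff T hT hb hk hz).1 h⟩, rfl⟩
    · rintro (rfl | ⟨z, hz, rfl⟩)
      · exact hk.1
      · exact (fix_iff T hT hb hk (T.mem_U.1 hz).1).2 (T.mem_U.1 hz).2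
  refine ⟨hmem, ?_⟩
  have ha : a ∈ fixSet G k := (hmem a).2 (Or.inl rfl)
  rw [← card_erase_add_one ha]
  congr 1
  rw [← Fintype.card_coe, ← Nat.card_eq_fintype_card]
  refine (Nat.card_congr (Equiv.ofBijective (fun z : T.U k => (⟨(z : G) • b, mem_erase.2
    ⟨smul_ne (T.fix z (T.mem_U.1 z.2).1) hb, (hmem _).2 (Or.inr ⟨z, z.2, rfl⟩)⟩⟩ :
      {y : Ω // y ∈ (fixSet G k).erase a})) ⟨fun z w h => ?_, fun y => ?_⟩)).symm
  · have h' : (z : G) • b = (w : G) • b := congrArg Subtype.val h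
    have h1 := T.free ((w : G)⁻¹ * z) (T.P.mul_mem (T.P.inv_mem (T.mem_U.1 w.2).1) (T.mem_U.1 z.2).1) b hb
      (by rw [mul_smul, h', inv_smul_smul])
    exact Subtype.ext (inv_mul_eq_one.1 h1).symm
  · obtain ⟨hya, hy⟩ := mem_erase.1 y.2
    obtain ⟨z, hz, hzy⟩ := ((hmem _).1 hy).resolve_left hya
    exact ⟨⟨z, hz⟩, Subtype.ext hzy⟩

theorem two_lt_fixSet (H : Hyp G Ω p) (T : Syl G Ω a p) (hT : T.IsNormalIn) (hb : b ≠ a) {k : G}
    (hk : k ∈ twoStab G a b) (hk1 : k ≠ 1) :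
    (2 < (fixSet G k : Finset Ω).card ↔ Nat.card (T.U k) = p) ∧ (Nat.card (T.U k) = p ∨ T.U k = ⊥) := by
  obtain ⟨hmem, hcard⟩ := fixSet_eq T hT hb hk
  have hUP : T.U k ≤ T.P := inf_le_left
  obtain ⟨i, hi, he⟩ := (Nat.dvd_prime_pow H.prime).1 (T.card ▸ Subgroup.card_dvd_of_le hUP)
  have hp := H.prime.two_le
  interval_cases i
  · rw [pow_zero] at he
    refine ⟨?_, Or.inr (Subgroup.card_eq_one.1 he)⟩
    constructor <;> intro h <;> omega
  · rw [pow_one] at he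
    refine ⟨?_, Or.inl he⟩
    constructor <;> intro h <;> omega
  · exfalso
    refine hk1 (eq_one_of_forall (Ω := Ω) fun y => mem_fixSet.1 ((hmem y).2 ?_))
    rcases eq_or_ne y a with rfl | hy
    · exact Or.inl rfl
    obtain ⟨z, hz, rfl⟩ := T.tran b y hb hy
    have : T.U k = T.P := Subgroup.eq_of_le_of_card_ge hUP (by rw [he, T.card])
    exact Or.inr ⟨z, this.symm ▸ hz, rfl⟩

/-- the invariant subgroup of order `p` coming from the blocks -/
theorem gen_invariant (H : Hyp G Ω p) (S : Sys G Ω a p) (T : Syl G Ω a p) (hT : T.IsNormalIn) {q : G}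
    (hqP : q ∈ T.P) (hqk : q ∈ S.ker)
    (hall : ∀ w ∈ T.P, w ∈ S.ker → ∃ i < p, q ^ i = w) {k : G} (hk : k • a = a) :
    ∃ r : ℤ, k * q * k⁻¹ = q ^ r := by
  obtain ⟨i, -, hi⟩ := hall _ (hT k hk q hqP) (S.conj_mem_ker hk hqk)
  exact ⟨i, by rw [zpow_natCast, hi]⟩

theorem twoStab_comm (H : Hyp G Ω p) (S : Sys G Ω a p) (T : Syl G Ω a p) (hT : T.IsNormalIn) (hb : b ≠ a)
    {k l : G} (hk : k ∈ twoStab G a b) (hl : l ∈ twoStab G a b) : k * l = l * k := by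
  haveI : Fact p.Prime := ⟨H.prime⟩
  obtain ⟨q, hqP, hqk, hqo, hqt, hall⟩ := exists_gen H S T
  obtain ⟨z₀, hz₀, hz₀q⟩ : ∃ z₀ ∈ T.P, z₀ ∉ Subgroup.zpowers q := by
    by_contra h
    simp only [not_exists, not_and, not_not] at h
    have := Subgroup.card_le_of_le (show T.P ≤ Subgroup.zpowers q from h)
    rw [T.card, Nat.card_zpowers, hqo, pow_two] at this
    have := H.prime.two_le
    nlinarith
  have hsp := fun w (hw : w ∈ T.P) => T.span H hqP hz₀ hqo hz₀q hw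
  have key : ∀ x ∈ twoStab G a b, ∃ r s t : ℤ, x * q * x⁻¹ = q ^ r ∧ x * z₀ * x⁻¹ = q ^ t * z₀ ^ s := by
    intro x hx
    obtain ⟨r, hr⟩ := gen_invariant H S T hT hqP hqk hall hx.1
    obtain ⟨t, s, hts⟩ := hsp _ (hT x hx.1 z₀ hz₀)
    exact ⟨r, s, t, hr, hts.symm⟩
  obtain ⟨r₁, s₁, t₁, hr₁, hs₁⟩ := key k hk
  obtain ⟨r₂, s₂, t₂, hr₂, hs₂⟩ := key l hl
  have hcalc : ∀ (x y : G) (r s t r' s' t' : ℤ), x * q * x⁻¹ = q ^ r → x * z₀ * x⁻¹ = q ^ t * z₀ ^ s →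
      y * q * y⁻¹ = q ^ r' → y * z₀ * y⁻¹ = q ^ t' * z₀ ^ s' →
      (x * y) * q * (x * y)⁻¹ = q ^ (r * r') ∧
        (x * y) * z₀ * (x * y)⁻¹ = q ^ (r * t' + t * s') * z₀ ^ (s * s') := by
    intro x y r s t r' s' t' hr hs hr' hs'
    constructor
    · rw [mul_inv_rev, show x * y * q * (y⁻¹ * x⁻¹) = x * (y * q * y⁻¹) * x⁻¹ by group, hr', conj_gen hr]
    · rw [mul_inv_rev, show x * y * z₀ * (y⁻¹ * x⁻¹) = x * (y * z₀ * y⁻¹) * x⁻¹ by group, hs',
        show x * (q ^ t' * z₀ ^ s') * x⁻¹ = (x * q ^ t' * x⁻¹) * (x * z₀ ^ s' * x⁻¹) by group,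
        conj_gen hr, ← conj_zpow (a := x) (b := z₀), hs,
        (show Commute (q ^ t) (z₀ ^ s) from T.comm _ (T.P.zpow_mem hqP t) _ (T.P.zpow_mem hz₀ s)).mul_zpow,
        ← zpow_mul, ← zpow_mul, ← mul_assoc, ← zpow_add]
  obtain ⟨e1, f1⟩ := hcalc k l r₁ s₁ t₁ r₂ s₂ t₂ hr₁ hs₁ hr₂ hs₂
  obtain ⟨e2, f2⟩ := hcalc l k r₂ s₂ t₂ r₁ s₁ t₁ hr₂ hs₂ hr₁ hs₁
  rw [mul_comm r₂ r₁] at e2
  rw [mul_comm s₂ s₁] at f2
  set c := (l * k)⁻¹ * (k * l) with hc
  have hcm : c ∈ twoStab G a b :=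
    Subgroup.mul_mem _ (Subgroup.inv_mem _ (Subgroup.mul_mem _ hl hk)) (Subgroup.mul_mem _ hk hl)
  obtain ⟨r₃, hr₃⟩ := gen_invariant H S T hT hqP hqk hall
    (k := (l * k)⁻¹) (inv_fix (mem_stabilizer_iff.1 (Subgroup.mul_mem _ hl hk : l * k ∈ twoStab G a b).1))
  have hcq : c * q * c⁻¹ = q := by
    rw [hc, show (l * k)⁻¹ * (k * l) * q * ((l * k)⁻¹ * (k * l))⁻¹ =
      (l * k)⁻¹ * ((k * l) * q * (k * l)⁻¹) * (l * k) by group, e1, ← e2]
    group
  obtain ⟨m, hm⟩ : ∃ m : ℤ, c * z₀ * c⁻¹ = q ^ m * z₀ := by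
    refine ⟨r₃ * (r₁ * t₂ + t₁ * s₂ - (r₂ * t₁ + t₂ * s₁)), ?_⟩
    rw [hc, show (l * k)⁻¹ * (k * l) * z₀ * ((l * k)⁻¹ * (k * l))⁻¹ =
      (l * k)⁻¹ * ((k * l) * z₀ * (k * l)⁻¹) * (l * k) by group, f1,
      show q ^ (r₁ * t₂ + t₁ * s₂) * z₀ ^ (s₁ * s₂) =
        q ^ (r₁ * t₂ + t₁ * s₂ - (r₂ * t₁ + t₂ * s₁)) * (q ^ (r₂ * t₁ + t₂ * s₁) * z₀ ^ (s₁ * s₂)) by
          rw [← mul_assoc, ← zpow_add, sub_add_cancel], ← f2]
    have := conj_gen (j := r₁ * t₂ + t₁ * s₂ - (r₂ * t₁ + t₂ * s₁)) hr₃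
    rw [inv_inv] at this
    rw [← this]
    group
  have hker : c ∈ S.ker := by
    refine ⟨hcm.1, fun y hy => ?_⟩
    obtain ⟨w, hw, rfl⟩ := T.tran b y hb hy
    rw [(twoStab_conj T hT hcm hw).2]
    obtain ⟨i, j, rfl⟩ := hsp w hw
    have e : c * (q ^ i * z₀ ^ j) * c⁻¹ = q ^ (m * j) * (q ^ i * z₀ ^ j) := by
      rw [show c * (q ^ i * z₀ ^ j) * c⁻¹ = (c * q ^ i * c⁻¹) * (c * z₀ ^ j * c⁻¹) by group, ← conj_zpow,
        hcq, ← conj_zpow, hm, (show Commute (q ^ m) z₀ from T.comm _ (T.P.zpow_mem hqP m) _ hz₀).mul_zpow,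
        ← zpow_mul, ← mul_assoc, ← zpow_add, ← mul_assoc, ← zpow_add, add_comm i]
    rw [e]
    have hfin := (S.ker.zpow_mem hqk (m * j)).2 _ hy
    simp only [mul_smul] at hfin ⊢
    exact hfin
  have h1 := eq_one_of_fix_class H S T hb hker fun z hz => by
    obtain ⟨i, -, rfl⟩ := hqt b hb z hz
    refine (fix_iff T hT hb hcm (T.P.pow_mem hqP i)).2 ?_
    rw [← conj_pow, hcq]
  exact (inv_mul_eq_one.1 h1).symm

/-- at most two invariant lines -/
theorem three_lines (H : Hyp G Ω p) (T : Syl G Ω a p) (hb : b ≠ a) (hT : T.IsNormalIn) {k : G}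
    (hk : k ∈ twoStab G a b) {u₁ u₂ u₃ : G} (h1 : u₁ ∈ T.P) (h2 : u₂ ∈ T.P) (h3 : u₃ ∈ T.P)
    (o1 : orderOf u₁ = p) (o2 : orderOf u₂ = p) (o3 : orderOf u₃ = p)
    (n12 : u₂ ∉ Subgroup.zpowers u₁) (n31 : u₃ ∉ Subgroup.zpowers u₁) (n32 : u₃ ∉ Subgroup.zpowers u₂)
    (f1 : k * u₁ * k⁻¹ = u₁) {r t : ℤ} (f2 : k * u₂ * k⁻¹ = u₂ ^ r) (f3 : k * u₃ * k⁻¹ = u₃ ^ t) :
    k = 1 := by
  obtain ⟨i, j, rfl⟩ := T.span H h1 h2 o1 n12 h3
  have hcomm : ∀ i j : ℤ, Commute (u₁ ^ i) (u₂ ^ j) := fun i j =>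
    T.comm _ (T.P.zpow_mem h1 i) _ (T.P.zpow_mem h2 j)
  rw [show k * (u₁ ^ i * u₂ ^ j) * k⁻¹ = (k * u₁ ^ i * k⁻¹) * (k * u₂ ^ j * k⁻¹) by group, ← conj_zpow, f1,
    conj_gen f2, (hcomm i j).mul_zpow, ← zpow_mul, ← zpow_mul] at f3
  have e : u₁ ^ (i - i * t) = u₂ ^ (j * t - r * j) := by
    have h := congrArg (fun x => (u₁ ^ (i * t))⁻¹ * x * (u₂ ^ (r * j))⁻¹) f3
    simp only [← mul_assoc] at h
    rw [mul_inv_cancel_right, inv_mul_cancel, one_mul, ← zpow_neg, ← zpow_neg, ← zpow_add, ← zpow_add] at h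
    rw [show i - i * t = -(i * t) + i by ring, show j * t - r * j = j * t + -(r * j) by ring]
    exact h
  have hi : ¬ (p : ℤ) ∣ i := fun hd => n32 (by
    have : u₁ ^ i = 1 := orderOf_dvd_iff_zpow_eq_one.1 (by rwa [o1])
    rw [this, one_mul]
    exact Subgroup.zpow_mem _ (Subgroup.mem_zpowers _) _)
  have hj : ¬ (p : ℤ) ∣ j := fun hd => n31 (by
    have : u₂ ^ j = 1 := orderOf_dvd_iff_zpow_eq_one.1 (by rwa [o2])
    rw [this, mul_one]
    exact Subgroup.zpow_mem _ (Subgroup.mem_zpowers _) _)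
  have hone : u₁ ^ (i - i * t) = 1 := by
    by_contra hne
    refine n12 ?_
    have hmem : u₂ ^ (j * t - r * j) ∈ Subgroup.zpowers u₁ := e ▸ Subgroup.zpow_mem _ (Subgroup.mem_zpowers _) _
    have hnd : ¬ (p : ℤ) ∣ j * t - r * j := fun hd => hne (by
      rw [e, ← orderOf_dvd_iff_zpow_eq_one, o2]; exact hd)
    obtain ⟨x, y, hxy⟩ : IsCoprime (p : ℤ) (j * t - r * j) :=
      ((Nat.prime_iff_prime_int.1 H.prime).coprime_iff_not_dvd).2 hnd
    have hu : u₂ = (u₂ ^ (j * t - r * j)) ^ y := by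
      conv_lhs => rw [← zpow_one u₂, ← hxy, zpow_add]
      rw [show x * (p : ℤ) = (p : ℤ) * x by ring, zpow_mul, zpow_natCast, ← o2, pow_orderOf_eq_one, one_zpow,
        one_mul, mul_comm, zpow_mul]
    rw [hu]
    exact Subgroup.zpow_mem _ hmem _
  have hpp := Nat.prime_iff_prime_int.1 H.prime
  have d1 : (p : ℤ) ∣ 1 - t := by
    have h : (p : ℤ) ∣ i * (1 - t) := by
      rw [mul_sub, mul_one, ← o1, orderOf_dvd_iff_zpow_eq_one, hone]
    exact (hpp.dvd_mul.1 h).resolve_left hi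
  have d2 : (p : ℤ) ∣ t - r := by
    have h : (p : ℤ) ∣ j * (t - r) := by
      rw [mul_sub, mul_comm j r, ← o2, orderOf_dvd_iff_zpow_eq_one, ← e, hone]
    exact (hpp.dvd_mul.1 h).resolve_left hj
  have hr : u₂ ^ r = u₂ := by
    have : u₂ ^ (r - 1) = 1 := by
      rw [← orderOf_dvd_iff_zpow_eq_one, o2]
      have := dvd_add d1 d2
      rw [show (1 - t) + (t - r) = -(r - 1) by ring, dvd_neg] at this
      exact this
    rw [show r = (r - 1) + 1 by ring, zpow_add, this, zpow_one, one_mul]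
  rw [hr] at f2
  refine eq_one_of_forall (Ω := Ω) fun y => ?_
  rcases eq_or_ne y a with rfl | hy
  · exact hk.1
  obtain ⟨w, hw, rfl⟩ := T.tran b y hb hy
  refine (fix_iff T hT hb hk hw).2 ?_
  obtain ⟨i', j', rfl⟩ := T.span H h1 h2 o1 n12 hw
  rw [show k * (u₁ ^ i' * u₂ ^ j') * k⁻¹ = (k * u₁ ^ i' * k⁻¹) * (k * u₂ ^ j' * k⁻¹) by group, ← conj_zpow,
    ← conj_zpow, f1, f2]

theorem exists_gen_U (H : Hyp G Ω p) (T : Syl G Ω a p) {k : G} (hU : Nat.card (T.U k) = p) :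
    ∃ u, u ∈ T.P ∧ orderOf u = p ∧ Subgroup.zpowers u = T.U k := by
  haveI : Fact p.Prime := ⟨H.prime⟩
  obtain ⟨u, hu⟩ := exists_prime_orderOf_dvd_card' p (dvd_of_eq hU.symm)
  refine ⟨u, u.2.1, by rw [Subgroup.orderOf_coe, hu], Subgroup.eq_of_le_of_card_ge (Subgroup.zpowers_le.2 u.2) ?_⟩
  rw [hU, Nat.card_zpowers, Subgroup.orderOf_coe, hu]

theorem U_invariant (H : Hyp G Ω p) (S : Sys G Ω a p) (T : Syl G Ω a p) (hT : T.IsNormalIn) (hb : b ≠ a)
    {k l u : G} (hk : k ∈ twoStab G a b) (hl : l ∈ twoStab G a b) (hu : Subgroup.zpowers u = T.U k) :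
    ∃ r : ℤ, l * u * l⁻¹ = u ^ r := by
  have hu' : u ∈ T.U k := hu ▸ Subgroup.mem_zpowers u
  have : l * u * l⁻¹ ∈ T.U k := by
    rw [T.mem_U]
    refine ⟨hT l hl.1 u (T.mem_U.1 hu').1, ?_⟩
    have hkl := twoStab_comm H S T hT hb hk hl
    calc k * (l * u * l⁻¹) * k⁻¹ = (k * l) * u * (k * l)⁻¹ := by group
      _ = l * (k * u * k⁻¹) * l⁻¹ := by rw [hkl]; group
      _ = l * u * l⁻¹ := by rw [(T.mem_U.1 hu').2]
  rw [← hu] at this
  obtain ⟨r, hr⟩ := Subgroup.mem_zpowers_iff.1 this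
  exact ⟨r, hr.symm⟩

/-- at most two fixed lines through `b` -/
theorem at_most_two (H : Hyp G Ω p) (S : Sys G Ω a p) (T : Syl G Ω a p) (hT : T.IsNormalIn) (hb : b ≠ a)
    {k₁ k₂ k₃ : G} (hk₁ : k₁ ∈ twoStab G a b) (hk₂ : k₂ ∈ twoStab G a b) (hk₃ : k₃ ∈ twoStab G a b)
    (h₁ : k₁ ≠ 1) (U₁ : Nat.card (T.U k₁) = p) (U₂ : Nat.card (T.U k₂) = p) (U₃ : Nat.card (T.U k₃) = p)
    (d12 : T.U k₁ ≠ T.U k₂) (d13 : T.U k₁ ≠ T.U k₃) (d23 : T.U k₂ ≠ T.U k₃) : False := by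
  obtain ⟨u₁, m1, o1, e1⟩ := exists_gen_U H T U₁
  obtain ⟨u₂, m2, o2, e2⟩ := exists_gen_U H T U₂
  obtain ⟨u₃, m3, o3, e3⟩ := exists_gen_U H T U₃
  have hne : ∀ {u v : G}, orderOf u = p → orderOf v = p →
      Subgroup.zpowers u ≠ Subgroup.zpowers v → v ∉ Subgroup.zpowers u := fun {u v} ou ov hd hv =>
    hd (Subgroup.eq_of_le_of_card_ge (Subgroup.zpowers_le.2 hv) (by rw [Nat.card_zpowers, Nat.card_zpowers, ou, ov])).symm
  obtain ⟨r, hr⟩ := U_invariant H S T hT hb hk₂ hk₁ e2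
  obtain ⟨t, ht⟩ := U_invariant H S T hT hb hk₃ hk₁ e3
  refine h₁ (three_lines H T hb hT hk₁ m1 m2 m3 o1 o2 o3 (hne o1 o2 (by rw [e1, e2]; exact d12))
    (hne o1 o3 (by rw [e1, e3]; exact d13)) (hne o2 o3 (by rw [e2, e3]; exact d23)) ?_ hr ht)
  exact (T.mem_U.1 (e1 ▸ Subgroup.mem_zpowers u₁)).2

theorem is2 (H : Hyp G Ω p) : IsMultiplyPretransitive G Ω 2 :=
  is_two_pretransitive_iff.2 fun {x y x' y'} h h' => H.trans x y x' y' h h'

/-- no nontrivial element fixes three points -/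
theorem free_case (H : Hyp G Ω p) (S : Sys G Ω a p) (T : Syl G Ω a p) (hT : T.IsNormalIn) (hb : b ≠ a)
    (hfree : ∀ k ∈ twoStab G a b, k ≠ 1 → (fixSet G k : Finset Ω).card ≤ 2) : False := by
  classical
  have hp := H.prime
  haveI : Fact p.Prime := ⟨hp⟩
  have hK : Nat.card (twoStab G a b) ∣ p - 1 := by
    obtain ⟨q, hqP, hqk, hqo, -, hall⟩ := exists_gen H S T
    haveI : Fintype G := Fintype.ofFinite G
    let X := {z : G // z ∈ Subgroup.zpowers q ∧ z ≠ 1}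
    letI : MulAction (twoStab G a b) X :=
      { smul := fun k z => ⟨(k : G) * z * (k : G)⁻¹, by
          obtain ⟨i, hi⟩ := Subgroup.mem_zpowers_iff.1 z.2.1
          obtain ⟨r, hr⟩ := gen_invariant H S T hT hqP hqk hall (mem_stabilizer_iff.1 k.2.1)
          refine ⟨?_, fun h => z.2.2 ?_⟩
          · rw [← hi, conj_gen hr]
            exact Subgroup.zpow_mem _ (Subgroup.mem_zpowers q) _
          · rw [mul_inv_eq_one] at h
            exact mul_eq_left.1 h⟩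
        one_smul := fun z => Subtype.ext (show (1 : G) * z * (1 : G)⁻¹ = z by simp)
        mul_smul := fun k l z => Subtype.ext
          (show ((k : G) * l) * z * ((k : G) * l)⁻¹ = (k : G) * ((l : G) * z * (l : G)⁻¹) * (k : G)⁻¹ by group) }
    have hstab : ∀ z : X, stabilizer (twoStab G a b) z = ⊥ := by
      intro z
      rw [Subgroup.eq_bot_iff_forall]
      intro k hk
      by_contra hk1
      have hk1' : (k : G) ≠ 1 := fun h => hk1 (Subtype.ext h)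
      have hz : (z : G) ∈ T.U (k : G) :=
        T.mem_U.2 ⟨(Subgroup.zpowers_le.2 hqP) z.2.1, congrArg Subtype.val (mem_stabilizer_iff.1 hk)⟩
      rcases (two_lt_fixSet H T hT hb k.2 hk1').2 with h | h
      · exact absurd ((two_lt_fixSet H T hT hb k.2 hk1').1.2 h) (not_lt.2 (hfree k k.2 hk1'))
      · rw [h, Subgroup.mem_bot] at hz
        exact z.2.2 hz
    have hX : Nat.card X = p - 1 := by
      rw [← hqo, ← Nat.card_zpowers]
      have e : X ≃ {z : Subgroup.zpowers q // z ≠ 1} :=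
        { toFun := fun z => ⟨⟨z.1, z.2.1⟩, fun h => z.2.2 (congrArg Subtype.val h)⟩
          invFun := fun z => ⟨z.1.1, z.1.2, fun h => z.2 (Subtype.ext h)⟩
          left_inv := fun z => rfl
          right_inv := fun z => rfl }
      rw [Nat.card_congr e, Nat.card_eq_fintype_card, Fintype.card_subtype_compl, Fintype.card_subtype_eq,
        Nat.card_eq_fintype_card]
    rw [← hX, Nat.card_congr (MulAction.selfEquivSigmaOrbitsQuotientStabilizer (twoStab G a b) X)]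
    haveI : Fintype (orbitRel.Quotient (twoStab G a b) X) := Fintype.ofFinite _
    rw [Nat.card_sigma]
    refine Finset.dvd_sum fun o _ => ?_
    rw [hstab, ← Subgroup.index, Subgroup.index_bot]
  have hord : Nat.card G = (p ^ 2 + 1) * (p ^ 2 * Nat.card (twoStab G a b)) := by
    haveI : IsPretransitive G Ω := by
      haveI := is2 H
      exact isPretransitive_of_is_two_pretransitive (G := G) (α := Ω)
    rw [← card_stab H hb, ← H.card, ← Nat.card_eq_fintype_card, ← index_stabilizer_of_transitive G a, mul_comm,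
      Subgroup.card_mul_index]
  have hodd : p % 2 = 1 := Nat.odd_iff.1 (hp.odd_of_ne_two H.odd)
  have hsq : p ^ 2 % 4 = 1 := by
    rw [Nat.pow_mod]
    have : p % 4 = 1 ∨ p % 4 = 3 := by omega
    rcases this with h | h <;> rw [h]
  rcases Nat.even_or_odd (Nat.card (twoStab G a b)) with he | ho
  swap
  · refine card_mod_four (G := G) hp H.odd H.card (is2 H) ?_
    have h1 : p ^ 2 * Nat.card (twoStab G a b) % 2 = 1 := by
      rw [Nat.mul_mod, Nat.odd_iff.1 ho, show p ^ 2 % 2 = 1 by omega]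
    rw [hord, Nat.mul_mod]
    obtain ⟨u, hu⟩ : ∃ u, p ^ 2 * Nat.card (twoStab G a b) = 2 * u + 1 := ⟨_ / 2, (Nat.div_add_mod _ 2).symm.trans (by rw [h1])⟩
    rw [hu, show (p ^ 2 + 1) % 4 = 2 by omega]
    omega
  have hZ : Cfsg.IsZassenhausGroup G Ω := by
    refine ⟨inferInstance, is2 H, fun g x y z hxy hyz hxz hx hy hz => ?_, ?_, fun N hN htr =>
      no_regular hp H.odd H.card (is2 H) N hN htr⟩
    · obtain ⟨h, hhx, hhy⟩ := H.trans x y a b hxy hb.symm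
      by_contra hg
      have hK' : h * g * h⁻¹ ∈ twoStab G a b := by
        refine ⟨mem_stabilizer_iff.2 ?_, mem_stabilizer_iff.2 ?_⟩
        · rw [← hhx, mul_smul, mul_smul, inv_smul_smul, hx]
        · rw [← hhy, mul_smul, mul_smul, inv_smul_smul, hy]
      have hle := hfree _ hK' (fun e => hg (conj_eq_one_iff.1 e))
      rw [fixSet_conj, card_image_of_injective _ (MulAction.injective h)] at hle
      have h3 : ({x, y, z} : Finset Ω) ⊆ fixSet G g := by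
        intro w hw
        simp only [mem_insert, mem_singleton] at hw
        rcases hw with rfl | rfl | rfl <;> rw [mem_fixSet] <;> assumption
      have := card_le_card h3
      rw [card_insert_of_notMem (by simp [hxy, hxz]), card_insert_of_notMem (by simp [hyz]), card_singleton] at this
      omega
    · haveI : Nontrivial (twoStab G a b) := Finite.one_lt_card_iff_nontrivial.1 (by
        obtain ⟨u, hu⟩ := he
        have := Nat.card_pos (α := twoStab G a b)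
        omega)
      obtain ⟨k, hk⟩ := exists_ne (1 : twoStab G a b)
      exact ⟨k, fun h => hk (Subtype.ext h), a, b, hb.symm, k.2.1, k.2.2⟩
  have hle := Cfsg.Agent.S0741.result hZ hb.symm he
  change Fintype.card Ω - 2 ≤ 2 * Nat.card (twoStab G a b) at hle
  have h1 := Nat.le_of_dvd (by have := hp.two_le; omega) hK
  rw [H.card] at hle
  have : 3 ≤ p := by have := hp.two_le; omega
  have : 3 * p ≤ p ^ 2 := by nlinarith
  omega

theorem orderOf_three {x : G} {r : ℤ} {u : G} (hu : orderOf u = 3) (h : x * u * x⁻¹ = u ^ r) :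
    x * u * x⁻¹ = u ∨ x * u * x⁻¹ = u⁻¹ := by
  rw [h]
  have h3 := zpow_mod_orderOf u r
  rw [hu] at h3
  have : r % (3 : ℕ) = 0 ∨ r % (3 : ℕ) = 1 ∨ r % (3 : ℕ) = 2 := by omega
  rcases this with e | e | e
  · rw [e, zpow_zero] at h3
    rw [← h3] at h
    rw [mul_inv_eq_one, mul_eq_left] at h
    rw [h, orderOf_one] at hu
    omega
  · rw [e, zpow_one] at h3
    exact Or.inl h3.symm
  · rw [e] at h3
    refine Or.inr (h3.symm.trans (eq_inv_of_mul_eq_one_left ?_))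
    rw [show (2 : ℤ) = ((2 : ℕ) : ℤ) from rfl, zpow_natCast, ← pow_succ, show 2 + 1 = orderOf u by omega,
      pow_orderOf_eq_one]

/-- `p = 3` with two families of fixed lines -/
theorem three_case (H : Hyp G Ω 3) (S : Sys G Ω a 3) (T : Syl G Ω a 3) (hT : T.IsNormalIn) (hb : b ≠ a)
    {k₁ k₂ : G} (hk₁ : k₁ ∈ twoStab G a b) (hk₂ : k₂ ∈ twoStab G a b) (h₁ : k₁ ≠ 1) (h₂ : k₂ ≠ 1)
    (U₁ : Nat.card (T.U k₁) = 3) (U₂ : Nat.card (T.U k₂) = 3) (hne : T.U k₁ ≠ T.U k₂) : False := by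
  classical
  obtain ⟨u₁, m1, o1, e1⟩ := exists_gen_U H T U₁
  obtain ⟨u₂, m2, o2, e2⟩ := exists_gen_U H T U₂
  have n12 : u₂ ∉ Subgroup.zpowers u₁ := fun h => hne (by
    rw [← e1, ← e2]
    exact (Subgroup.eq_of_le_of_card_ge (Subgroup.zpowers_le.2 h) (by rw [Nat.card_zpowers, Nat.card_zpowers, o1, o2])).symm)
  have hdet : ∀ x ∈ twoStab G a b, x * u₁ * x⁻¹ = u₁ → x * u₂ * x⁻¹ = u₂ → x = 1 := by
    intro x hx h1 h2
    refine eq_one_of_forall (Ω := Ω) fun y => ?_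
    rcases eq_or_ne y a with rfl | hy
    · exact hx.1
    obtain ⟨w, hw, rfl⟩ := T.tran b y hb hy
    refine (fix_iff T hT hb hx hw).2 ?_
    obtain ⟨i, j, rfl⟩ := T.span H m1 m2 o1 n12 hw
    rw [show x * (u₁ ^ i * u₂ ^ j) * x⁻¹ = (x * u₁ ^ i * x⁻¹) * (x * u₂ ^ j * x⁻¹) by group, ← conj_zpow,
      ← conj_zpow, h1, h2]
  have hpm1 : ∀ x ∈ twoStab G a b, x * u₁ * x⁻¹ = u₁ ∨ x * u₁ * x⁻¹ = u₁⁻¹ := fun x hx => by
    obtain ⟨r, hr⟩ := U_invariant H S T hT hb hk₁ hx e1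
    exact orderOf_three o1 hr
  have hpm2 : ∀ x ∈ twoStab G a b, x * u₂ * x⁻¹ = u₂ ∨ x * u₂ * x⁻¹ = u₂⁻¹ := fun x hx => by
    obtain ⟨r, hr⟩ := U_invariant H S T hT hb hk₂ hx e2
    exact orderOf_three o2 hr
  have f11 : k₁ * u₁ * k₁⁻¹ = u₁ := (T.mem_U.1 (e1 ▸ Subgroup.mem_zpowers u₁)).2
  have f22 : k₂ * u₂ * k₂⁻¹ = u₂ := (T.mem_U.1 (e2 ▸ Subgroup.mem_zpowers u₂)).2
  have f12 : k₁ * u₂ * k₁⁻¹ = u₂⁻¹ := (hpm2 k₁ hk₁).resolve_left fun h => h₁ (hdet k₁ hk₁ f11 h)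
  have f21 : k₂ * u₁ * k₂⁻¹ = u₁⁻¹ := (hpm1 k₂ hk₂).resolve_left fun h => h₂ (hdet k₂ hk₂ h f22)
  have conj_mul : ∀ x y u : G, (x * y) * u * (x * y)⁻¹ = x * (y * u * y⁻¹) * x⁻¹ := fun x y u => by group
  have conj_inv' : ∀ x u v : G, x * u * x⁻¹ = v → x * u⁻¹ * x⁻¹ = v⁻¹ := fun x u v h => by rw [← h]; group
  set k₃ := k₁ * k₂ with hk3
  have hk₃ : k₃ ∈ twoStab G a b := Subgroup.mul_mem _ hk₁ hk₂
  have f31 : k₃ * u₁ * k₃⁻¹ = u₁⁻¹ := by rw [hk3, conj_mul, f21, conj_inv' _ _ _ f11]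
  have f32 : k₃ * u₂ * k₃⁻¹ = u₂⁻¹ := by rw [hk3, conj_mul, f22, f12]
  have hsq : k₁ * k₁ = 1 := hdet _ (Subgroup.mul_mem _ hk₁ hk₁) (by rw [conj_mul, f11, f11])
    (by rw [conj_mul, f12, conj_inv' _ _ _ f12, inv_inv])
  have hsq2 : k₂ * k₂ = 1 := hdet _ (Subgroup.mul_mem _ hk₂ hk₂)
    (by rw [conj_mul, f21, conj_inv' _ _ _ f21, inv_inv]) (by rw [conj_mul, f22, f22])
  have hall : ∀ x ∈ twoStab G a b, x = 1 ∨ x = k₁ ∨ x = k₂ ∨ x = k₃ := by
    intro x hx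
    have key : ∀ y ∈ twoStab G a b, x * u₁ * x⁻¹ = y * u₁ * y⁻¹ → x * u₂ * x⁻¹ = y * u₂ * y⁻¹ → x = y := by
      intro y hy h1 h2
      refine (inv_mul_eq_one.1 (hdet (y⁻¹ * x) (Subgroup.mul_mem _ (Subgroup.inv_mem _ hy) hx) ?_ ?_)).symm
      · rw [conj_mul, h1]; group
      · rw [conj_mul, h2]; group
    rcases hpm1 x hx with a1 | a1 <;> rcases hpm2 x hx with a2 | a2
    · exact Or.inl (hdet x hx a1 a2)
    · exact Or.inr (Or.inl (key k₁ hk₁ (by rw [a1, f11]) (by rw [a2, f12])))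
    · exact Or.inr (Or.inr (Or.inl (key k₂ hk₂ (by rw [a1, f21]) (by rw [a2, f22]))))
    · exact Or.inr (Or.inr (Or.inr (key k₃ hk₃ (by rw [a1, f31]) (by rw [a2, f32]))))
  -- parity
  let ε : G →* ℤˣ := Equiv.Perm.sign.comp (MulAction.toPermHom G Ω)
  have hodd : ∀ k ∈ twoStab G a b, k ≠ 1 → k * k = 1 → Nat.card (T.U k) = 3 → ε k = -1 := by
    intro k hk hk1 hkk hU
    show Equiv.Perm.sign (MulAction.toPermHom G Ω k) = -1
    have h2 : (MulAction.toPermHom G Ω k) ^ 2 = 1 := by rw [← map_pow, pow_two, hkk, map_one]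
    have hsupp : (MulAction.toPermHom G Ω k).support = (fixSet G k)ᶜ := by
      ext z
      rw [Equiv.Perm.mem_support, mem_compl, mem_fixSet]
      rfl
    rw [(sign_involution _ h2).2, hsupp, card_compl, (fixSet_eq T hT hb hk).2, hU, H.card]
    decide
  have hε₁ := hodd k₁ hk₁ h₁ hsq U₁
  have hε₂ := hodd k₂ hk₂ h₂ hsq2 U₂
  have hε₃ : ε k₃ = 1 := by rw [hk3, map_mul, hε₁, hε₂]; decide
  let G₀ : Subgroup G := ε.ker
  have htr : ∀ x y x' y' : Ω, x ≠ y → x' ≠ y' → ∃ g : G₀, g • x = x' ∧ g • y = y' := by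
    intro x y x' y' hxy hxy'
    obtain ⟨g, hgx, hgy⟩ := H.trans x y x' y' hxy hxy'
    rcases Int.units_eq_one_or (ε g) with h | h
    · exact ⟨⟨g, h⟩, hgx, hgy⟩
    · obtain ⟨h', hx', hy'⟩ := H.trans a b x y hb.symm hxy
      refine ⟨⟨g * (h' * k₁ * h'⁻¹), ?_⟩, ?_, ?_⟩
      · show ε (g * (h' * k₁ * h'⁻¹)) = 1
        rw [map_mul, map_mul, map_mul, h, hε₁, map_inv]
        rcases Int.units_eq_one_or (ε h') with e | e <;> rw [e] <;> decide
      · show (g * (h' * k₁ * h'⁻¹)) • x = x'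
        simp only [mul_smul]
        rw [← hx', inv_smul_smul, (mem_twoStab.1 hk₁).1, hx', hgx]
      · show (g * (h' * k₁ * h'⁻¹)) • y = y'
        simp only [mul_smul]
        rw [← hy', inv_smul_smul, (mem_twoStab.1 hk₁).2, hy', hgy]
  have h2' : IsMultiplyPretransitive G₀ Ω 2 :=
    is_two_pretransitive_iff.2 fun {x y x' y'} h h' => htr x y x' y' h h'
  have hcard0 : Nat.card ↥(stabilizer G₀ a ⊓ stabilizer G₀ b) = 2 := by
    have hk31 : k₃ ≠ 1 := fun h => by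
      rw [h, one_mul, inv_one, mul_one] at f31
      have h' := orderOf_dvd_of_pow_eq_one (x := u₁) (n := 2) (by rw [pow_two]; nth_rw 2 [f31]; exact mul_inv_cancel u₁)
      rw [o1] at h'
      omega
    have hset : ((stabilizer G₀ a ⊓ stabilizer G₀ b : Subgroup G₀) : Set G₀) = {1, ⟨k₃, hε₃⟩} := by
      ext g
      constructor
      · intro hg
        obtain ⟨hga, hgb⟩ := hg
        have hgm : (g : G) ∈ twoStab G a b := ⟨hga, hgb⟩
        rcases hall g hgm with e | e | e | e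
        · exact Or.inl (Subtype.ext e)
        · exact absurd (show ε (g : G) = 1 from g.2) (by rw [e, hε₁]; decide)
        · exact absurd (show ε (g : G) = 1 from g.2) (by rw [e, hε₂]; decide)
        · exact Or.inr (Subtype.ext e)
      · rintro (rfl | rfl)
        · exact Subgroup.one_mem _
        · exact ⟨hk₃.1, hk₃.2⟩
    rw [← SetLike.coe_sort_coe, hset, Nat.card_coe_set_eq, Set.ncard_pair]
    exact fun h => hk31 (congrArg Subtype.val h).symm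
  haveI : FaithfulSMul G₀ Ω := ⟨fun {g h} e => Subtype.ext (eq_of_smul_eq_smul (α := Ω) e)⟩
  have hp3 : Nat.Prime 3 := Nat.prime_three
  have hZ : Cfsg.IsZassenhausGroup G₀ Ω := by
    refine ⟨inferInstance, h2', fun g x y z hxy hyz hxz hx hy hz => ?_, ?_, fun N hN htr =>
      no_regular hp3 (by norm_num) H.card h2' N hN htr⟩
    · by_contra hg
      obtain ⟨h, hhx, hhy⟩ := H.trans x y a b hxy hb.symm
      have hK' : h * (g : G) * h⁻¹ ∈ twoStab G a b := by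
        refine ⟨mem_stabilizer_iff.2 ?_, mem_stabilizer_iff.2 ?_⟩
        · rw [← hhx, mul_smul, mul_smul, inv_smul_smul]
          exact congrArg (h • ·) hx
        · rw [← hhy, mul_smul, mul_smul, inv_smul_smul]
          exact congrArg (h • ·) hy
      have heven : ε (h * (g : G) * h⁻¹) = 1 := by
        rw [map_mul, map_mul, show ε (g : G) = 1 from g.2, mul_one, map_inv, mul_inv_cancel]
      have hg' : h * (g : G) * h⁻¹ ≠ 1 := fun e => hg (Subtype.ext (conj_eq_one_iff.1 e))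
      rcases hall _ hK' with e | e | e | e
      · exact hg' e
      · rw [e, hε₁] at heven; exact absurd heven (by decide)
      · rw [e, hε₂] at heven; exact absurd heven (by decide)
      · have hz' : h • z ∈ fixSet G (h * (g : G) * h⁻¹) := by
          rw [fixSet_conj]
          exact mem_image_of_mem _ (mem_fixSet.2 hz)
        rw [e, (fixSet_eq T hT hb hk₃).1] at hz'
        rcases hz' with h' | ⟨w, hw, h'⟩
        · exact hxz (smul_left_cancel h (by rw [hhx, h'])).symm.symm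
        · obtain ⟨hwP, hwf⟩ := T.mem_U.1 hw
          obtain ⟨i, j, rfl⟩ := T.span H m1 m2 o1 n12 hwP
          rw [show k₃ * (u₁ ^ i * u₂ ^ j) * k₃⁻¹ = (k₃ * u₁ ^ i * k₃⁻¹) * (k₃ * u₂ ^ j * k₃⁻¹) by group,
            ← conj_zpow, ← conj_zpow, f31, f32] at hwf
          have e' : u₁ ^ (i + i) = u₂ ^ (-(j + j)) := by
            have h3 := congrArg (fun x => u₁ ^ i * x * (u₂ ^ j)⁻¹) hwf.symm
            simp only [inv_zpow', ← mul_assoc] at h3
            rw [mul_inv_cancel_right, ← zpow_add, ← zpow_add, add_neg_cancel, zpow_zero, one_mul,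
              ← zpow_neg, ← zpow_add] at h3
            rw [h3, show -(j + j) = -j + -j by ring]
          have hd : u₁ ^ (i + i) = 1 := by
            by_contra hne'
            have hnd : ¬ (3 : ℤ) ∣ -(j + j) := fun hd => hne' (by
              rw [e', ← orderOf_dvd_iff_zpow_eq_one, o2]; exact hd)
            obtain ⟨x', y', hxy'⟩ : IsCoprime (3 : ℤ) (-(j + j)) :=
              ((Nat.prime_iff_prime_int.1 Nat.prime_three).coprime_iff_not_dvd).2 hnd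
            refine n12 ?_
            have hu : u₂ = (u₂ ^ (-(j + j))) ^ y' := by
              conv_lhs => rw [← zpow_one u₂, ← hxy', zpow_add]
              rw [show x' * (3 : ℤ) = ((orderOf u₂ : ℕ) : ℤ) * x' by rw [o2]; push_cast; ring, zpow_mul,
                zpow_natCast, pow_orderOf_eq_one, one_zpow, one_mul, mul_comm, zpow_mul]
            rw [hu, ← e']
            exact Subgroup.zpow_mem _ (Subgroup.zpow_mem _ (Subgroup.mem_zpowers _) _) _
          have hd2 : u₂ ^ (-(j + j)) = 1 := by rw [← e', hd]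
          rw [← orderOf_dvd_iff_zpow_eq_one, o1] at hd
          rw [← orderOf_dvd_iff_zpow_eq_one, o2] at hd2
          have hi0 : u₁ ^ i = 1 := by rw [← orderOf_dvd_iff_zpow_eq_one, o1]; omega
          have hj0 : u₂ ^ j = 1 := by rw [← orderOf_dvd_iff_zpow_eq_one, o2]; omega
          rw [hi0, hj0, one_mul, one_smul] at h'
          exact hyz (smul_left_cancel h (by rw [hhy, h']))
    · obtain ⟨g, hg, hgne⟩ : ∃ g ∈ stabilizer G₀ a ⊓ stabilizer G₀ b, g ≠ 1 := by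
        by_contra h
        simp only [not_exists, not_and, not_not] at h
        rw [(Subgroup.eq_bot_iff_forall _).2 h, Subgroup.card_bot] at hcard0
        omega
      exact ⟨g, hgne, a, b, hb.symm, hg.1, hg.2⟩
  have := Cfsg.Agent.S0741.result hZ hb.symm (by rw [hcard0]; decide)
  rw [hcard0, H.card] at this
  omega

/-- the case of a normal Sylow subgroup -/
theorem normal_case (H : Hyp G Ω p) (S : Sys G Ω a p) (T : Syl G Ω a p) (hT : T.IsNormalIn) (hb : b ≠ a) :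
    False := by
  classical
  haveI : Fintype G := Fintype.ofFinite G
  by_cases hfree : ∀ k ∈ twoStab G a b, k ≠ 1 → (fixSet G k : Finset Ω).card ≤ 2
  · exact free_case H S T hT hb hfree
  simp only [not_forall, not_le, exists_prop] at hfree
  obtain ⟨k₁, hk₁, h₁, hl₁⟩ := hfree
  let 𝓛 : Finset (Finset Ω) :=
    (univ.filter fun k : G => k ≠ 1 ∧ 2 < (fixSet G k : Finset Ω).card).image (fixSet G)
  have hinv : ∀ g : G, ∀ L ∈ 𝓛, L.image (g • ·) ∈ 𝓛 := by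
    intro g L hL
    simp only [𝓛, mem_image, mem_filter, mem_univ, true_and] at hL ⊢
    obtain ⟨k, ⟨hk, hc⟩, rfl⟩ := hL
    exact ⟨g * k * g⁻¹, ⟨fun e => hk (conj_eq_one_iff.1 e),
      by rw [fixSet_conj, card_image_of_injective _ (MulAction.injective g)]; exact hc⟩, fixSet_conj g k⟩
  have hab : ∀ L ∈ 𝓛, a ∈ L → b ∈ L → ∃ k ∈ twoStab G a b, k ≠ 1 ∧ Nat.card (T.U k) = p ∧ L = fixSet G k := by
    intro L hL ha hb'
    simp only [𝓛, mem_image, mem_filter, mem_univ, true_and] at hL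
    obtain ⟨k, ⟨hk, hc⟩, rfl⟩ := hL
    have hkm : k ∈ twoStab G a b := ⟨mem_fixSet.1 ha, mem_fixSet.1 hb'⟩
    exact ⟨k, hkm, hk, (two_lt_fixSet H T hT hb hkm hk).1.1 hc, rfl⟩
  have hk : ∀ L ∈ 𝓛, L.card = p + 1 := by
    intro L hL
    obtain ⟨x, y, hx, hy, hxy⟩ : ∃ x y, x ∈ L ∧ y ∈ L ∧ x ≠ y := by
      have h2 : 1 < L.card := by
        simp only [𝓛, mem_image, mem_filter, mem_univ, true_and] at hL
        obtain ⟨k, ⟨-, hc⟩, rfl⟩ := hL
        omega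
      obtain ⟨x, hx, y, hy, hxy⟩ := one_lt_card.1 h2
      exact ⟨x, y, hx, hy, hxy⟩
    obtain ⟨g, rfl, rfl⟩ := H.trans x y a b hxy hb.symm
    obtain ⟨k, hkm, -, hU, he⟩ := hab _ (hinv g L hL) (mem_image_of_mem _ hx) (mem_image_of_mem _ hy)
    have := (fixSet_eq T hT hb hkm).2
    rw [← he, card_image_of_injective _ (MulAction.injective g), hU] at this
    exact this
  have hlam := fun x y hxy => lam_of_invariant (G := G) H.trans 𝓛 hinv hb.symm x y hxy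
  set F := 𝓛.filter fun L => a ∈ L ∧ b ∈ L with hF
  have hfixU : ∀ {k l : G}, k ∈ twoStab G a b → l ∈ twoStab G a b → T.U k = T.U l →
      (fixSet G k : Finset Ω) = fixSet G l := by
    intro k l hk hl e
    ext y
    rw [(fixSet_eq T hT hb hk).1, (fixSet_eq T hT hb hl).1, e]
  have hL1 : fixSet G k₁ ∈ F := by
    simp only [hF, 𝓛, mem_filter, mem_image, mem_univ, true_and]
    exact ⟨⟨k₁, ⟨h₁, hl₁⟩, rfl⟩, mem_fixSet.2 hk₁.1, mem_fixSet.2 hk₁.2⟩
  have hle : F.card ≤ 2 := by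
    by_contra hgt
    obtain ⟨L₁, L₂, L₃, hL₁, hL₂, hL₃, d12, d13, d23⟩ := two_lt_card_iff.1 (not_le.1 hgt)
    simp only [hF, mem_filter] at hL₁ hL₂ hL₃
    obtain ⟨l₁, hm₁, hn₁, hU₁, rfl⟩ := hab _ hL₁.1 hL₁.2.1 hL₁.2.2
    obtain ⟨l₂, hm₂, -, hU₂, rfl⟩ := hab _ hL₂.1 hL₂.2.1 hL₂.2.2
    obtain ⟨l₃, hm₃, -, hU₃, rfl⟩ := hab _ hL₃.1 hL₃.2.1 hL₃.2.2
    exact at_most_two H S T hT hb hm₁ hm₂ hm₃ hn₁ hU₁ hU₂ hU₃ (fun e => d12 (hfixU hm₁ hm₂ e))
      (fun e => d13 (hfixU hm₁ hm₃ e)) (fun e => d23 (hfixU hm₂ hm₃ e))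
  have hd := design p H.prime H.odd H.card 𝓛 (lam := F.card) hk fun x y hxy => hlam x y hxy
  have h2 : F.card = 2 := by
    have : 0 < F.card := card_pos.2 ⟨_, hL1⟩
    have := hd.1
    omega
  obtain rfl := hd.2 h2
  obtain ⟨L₁, L₂, hne, hFe⟩ := card_eq_two.1 h2
  have hm1 : L₁ ∈ F := by rw [hFe]; simp
  have hm2 : L₂ ∈ F := by rw [hFe]; simp
  simp only [hF, mem_filter] at hm1 hm2
  obtain ⟨l₁, hl1, hn1, hU1, rfl⟩ := hab _ hm1.1 hm1.2.1 hm1.2.2
  obtain ⟨l₂, hl2, hn2, hU2, rfl⟩ := hab _ hm2.1 hm2.2.1 hm2.2.2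
  exact three_case H S T hT hb hl1 hl2 hn1 hn2 hU1 hU2 fun e => hne (hfixU hl1 hl2 e)

end Cfsg.Agent.DoublyPrim
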